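import Cfsg.Agent.Lib.CenNilp.SzChars

/-!
The linear character.
-/

set_option autoImplicit false
set_option linter.style.haveILetI false
set_option linter.unusedSectionVars false

namespace Cfsg.Agent.CenNilp

open Cfsg Cfsg.Agent.Char Cfsg.Agent.Blocks
open scoped ComplexConjugate

universe u

variable {G : Type u} [Group G] [Fintype G] {M : Ideal AlgInt} [M.IsPrime]
  {P : Sylow 2 G} {σ : ↥(P : Subgroup G) ≃* ↥(P : Subgroup G)}

/-- An element of order four of the Sylow subgroup is inverted by no involution. -/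
theorem not_inverted (hcen : ∀ v : ↥(P : Subgroup G), v * v = 1 → ∀ y, y * v = v * y)
    {x : ↥(P : Subgroup G)} (hx : x * x ≠ 1) {c : G} (hc : c * c = 1)
    (hcx : c * (x : G) * c⁻¹ = (x : G)⁻¹) : False := by
  haveI : Fact (Nat.Prime 2) := ⟨Nat.prime_two⟩
  have hX : IsPGroup 2 ↥(Subgroup.zpowers (x : G)) := P.2.to_le (Subgroup.zpowers_le.2 x.2)
  have hC : IsPGroup 2 ↥(Subgroup.zpowers c) := by
    obtain ⟨j, -, hj⟩ := (Nat.dvd_prime_pow Nat.prime_two).1
      (show orderOf c ∣ 2 ^ 1 by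
        rw [pow_one]
        exact orderOf_dvd_of_pow_eq_one (by rw [pow_two, hc]))
    exact IsPGroup.of_card (n := j) (by rw [Nat.card_zpowers, hj])
  have hcN : c ∈ Subgroup.normalizer ((Subgroup.zpowers (x : G) : Subgroup G) : Set G) := by
    rw [Subgroup.mem_normalizer_iff_map_conj_eq, MonoidHom.map_zpowers]
    show Subgroup.zpowers (c * (x : G) * c⁻¹) = _
    rw [hcx, Subgroup.zpowers_inv]
  obtain ⟨R, hR⟩ := (hX.to_sup_of_normal_left' hC (Subgroup.zpowers_le.2 hcN)).exists_le_sylow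
  obtain ⟨g, hg⟩ := MulAction.exists_smul_eq G R P
  have hmem : ∀ y ∈ (R : Subgroup G), g * y * g⁻¹ ∈ (P : Subgroup G) := fun y hy => by
    rw [← hg, Sylow.coe_subgroup_smul]
    exact Subgroup.smul_mem_pointwise_smul y (MulAut.conj g) _ hy
  have hx' := hmem _ (hR (Subgroup.mem_sup_left (Subgroup.mem_zpowers (x : G))))
  have hc' := hmem _ (hR (Subgroup.mem_sup_right (Subgroup.mem_zpowers c)))
  have h := congrArg Subtype.val (hcen ⟨g * c * g⁻¹, hc'⟩ (Subtype.ext (by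
    show g * c * g⁻¹ * (g * c * g⁻¹) = 1
    rw [show g * c * g⁻¹ * (g * c * g⁻¹) = g * (c * c) * g⁻¹ by group, hc, mul_one, mul_inv_cancel])) ⟨g * x * g⁻¹, hx'⟩)
  simp only [Subgroup.coe_mul] at h
  have h2 : c * (x : G) = x * c := by
    rw [show g * x * g⁻¹ * (g * c * g⁻¹) = g * ((x : G) * c) * g⁻¹ by group,
      show g * c * g⁻¹ * (g * x * g⁻¹) = g * (c * x) * g⁻¹ by group] at h
    exact (mul_left_cancel (mul_right_cancel h)).symm
  refine hx (Subtype.ext ?_)
  rw [h2, mul_inv_cancel_right] at hcx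
  show (x : G) * x = 1
  nth_rw 2 [hcx]
  rw [mul_inv_cancel]

/-- The arithmetic at the end. -/
theorem arith_finish {α β q A B D : ℤ} (hα4 : (α - 1) % 4 = 0) (hβ4 : (β - 1) % 4 = 0)
    (hq4 : (q + 1) % 4 = 0) (hq : q = 1 + α + β) (hn2 : 1 + α ^ 2 + β ^ 2 + 5 * q ^ 2 ≤ 64)
    (hA16 : (A - α) % 16 = 0) (hB16 : (B - β) % 16 = 0) (hD16 : (D + q) % 16 = 0)
    (hsum0 : 1 + A + B + D = 0)
    (hcl : 1 + (α : ℚ) ^ 2 / (A : ℚ) + (β : ℚ) ^ 2 / (B : ℚ) + (q : ℚ) ^ 2 / (D : ℚ) = 0) :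
    A = 1 ∨ B = 1 ∨ D = 1 := by
  have hα : -8 < α ∧ α < 8 := ⟨by nlinarith [sq_nonneg β, sq_nonneg q], by nlinarith [sq_nonneg β, sq_nonneg q]⟩
  have hβ : -8 < β ∧ β < 8 := ⟨by nlinarith [sq_nonneg α, sq_nonneg q], by nlinarith [sq_nonneg α, sq_nonneg q]⟩
  have hab : (α = 1 ∧ β = 1 ∧ q = 3) ∨ (α = -3 ∧ β = 1 ∧ q = -1) ∨ (α = 1 ∧ β = -3 ∧ q = -1) := by
    subst hq
    obtain ⟨h1, h2⟩ := hα
    obtain ⟨h3, h4⟩ := hβ
    interval_cases α <;> first | omega | (interval_cases β <;> norm_num at *)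
  rcases hab with ⟨e1, e2, e3⟩ | ⟨e1, e2, e3⟩ | ⟨e1, e2, e3⟩ <;> subst e1 <;> subst e2 <;> subst e3
  · rcases Homocyclic.int_cases (a := A) (b := B) (c := -D) (by omega) (by omega) (by omega)
        (by linarith) (by push_cast at hcl ⊢; rw [div_neg]; linear_combination hcl) with h | h
    · exact Or.inl h
    · exact Or.inr (Or.inl h)
  · rcases Homocyclic.int_cases (a := B) (b := D) (c := -A) (by omega) (by omega) (by omega)
        (by linarith) (by push_cast at hcl ⊢; rw [div_neg]; linear_combination hcl) with h | h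
    · exact Or.inr (Or.inl h)
    · exact Or.inr (Or.inr h)
  · rcases Homocyclic.int_cases (a := A) (b := D) (c := -B) (by omega) (by omega) (by omega)
        (by linarith) (by push_cast at hcl ⊢; rw [div_neg]; linear_combination hcl) with h | h
    · exact Or.inl h
    · exact Or.inr (Or.inr h)

set_option maxHeartbeats 2000000 in
/-- The linear character. -/
theorem SzFused.exists_linear (hP : SzFused P σ) (hM : IsPModular 2 M) :
    ∃ χ : IrrCharacter G, χ ≠ principal G ∧ (χ : G → ℂ) 1 = 1 := by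
  classical
  haveI : Fact (Nat.Prime 2) := ⟨Nat.prime_two⟩
  haveI : Fintype ↥(P : Subgroup G) := Fintype.ofFinite _
  haveI : Fintype hP.Q := Fintype.ofFinite _
  set one := principal hP.Q with hone
  set Bf := Finset.univ.filter (· ∈ principalBlock M G) with hBf
  have hpr : principal G ∈ Bf := Finset.mem_filter.2 ⟨Finset.mem_univ _, principal_mem_principalBlock⟩
  have hA : (Nat.card (P : Subgroup G) : ℂ) = 64 := by rw [hP.card]; norm_num
  have hA0 : (64 : ℂ) ≠ 0 := by norm_num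
  have hsurj : Function.Surjective (QuotientGroup.mk' hP.rootsOne) := QuotientGroup.mk'_surjective _
  -- coefficients
  have hn : ∀ (χ : IrrCharacter G) (μ : IrrCharacter hP.Q),
      ∃ n : ℕ, classInner (fun x : ↥(P : Subgroup G) => (μ : hP.Q → ℂ) (x : hP.Q))
        (fun x => (χ : G → ℂ) x) = n := fun χ μ =>
    IsCharacter.exists_classInner_nat
      (irr_isCharacter ⟨_, IsIrrCharacter.comp μ.2 (QuotientGroup.mk' hP.rootsOne) hsurj⟩)
      (IsCharacter.restrict (irr_isCharacter χ) _)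
  choose n hn using hn
  have hsum : ∀ (χ : IrrCharacter G) (μ : IrrCharacter hP.Q),
      ∑ x : ↥(P : Subgroup G), (μ : hP.Q → ℂ) (x : hP.Q) * conj ((χ : G → ℂ) x) = 64 * n χ μ := by
    intro χ μ
    have h := hn χ μ
    simp only [classInner] at h
    rwa [hA, inv_mul_eq_iff_eq_mul₀ hA0] at h
  have hinv : ∀ (χ : IrrCharacter G) (x : ↥(P : Subgroup G)),
      (χ : G → ℂ) ((σ x : ↥(P : Subgroup G)) : G) = (χ : G → ℂ) x := fun χ x =>
    irr_isConj χ (hP.isConj_apply x)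
  have hntw : ∀ χ μ, n χ (hP.twistQ μ) = n χ μ := by
    intro χ μ
    have h : (64 : ℂ) * n χ (hP.twistQ μ) = 64 * n χ μ := by
      rw [← hsum, ← hsum]
      refine Eq.trans (Finset.sum_congr rfl fun x _ => ?_) (Equiv.sum_comp σ.toEquiv
        fun x => (μ : hP.Q → ℂ) (x : hP.Q) * conj ((χ : G → ℂ) x))
      simp only [MulEquiv.toEquiv_eq_coe, MulEquiv.coe_toEquiv, SzFused.twistQ_apply, hinv]
      rw [SzFused.tau_mk]
    exact_mod_cast mul_left_cancel₀ hA0 h
  have hsumone : ∀ χ : IrrCharacter G, ∑ x : ↥(P : Subgroup G), conj ((χ : G → ℂ) x) =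
      64 * n χ one := fun χ => by
    rw [← hsum]
    exact Finset.sum_congr rfl fun x _ => (one_mul _).symm
  set v : IrrCharacter hP.Q → IrrCharacter G → ℤ := fun μ χ => (n χ one : ℤ) - n χ μ with hv
  have hc : ∀ (μ : IrrCharacter hP.Q) (χ : IrrCharacter G),
      ∑ x : ↥(P : Subgroup G), hP.orbQ μ (x : hP.Q) * conj ((χ : G → ℂ) x) = 3 * 64 * (v μ χ : ℂ) := by
    intro μ χ
    simp only [SzFused.orbQ, sub_mul, add_mul, Finset.sum_sub_distrib, Finset.sum_add_distrib, hsum,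
      hntw, ← Finset.mul_sum, hsumone, hv]
    push_cast
    ring
  have hvtw : ∀ μ χ, v (hP.twistQ μ) χ = v μ χ := fun μ χ => by simp [hv, hntw]
  have hvone : ∀ χ, v one χ = 0 := fun χ => sub_self _
  -- inner products
  have hpairsum : ∀ (μ : IrrCharacter hP.Q) (g : G),
      3 * 64 * ∑ χ ∈ Bf, (v μ χ : ℂ) * (χ : G → ℂ) g =
        ∑ x : ↥(P : Subgroup G), hP.orbQ μ (x : hP.Q) * blockPair (principalBlock M G) g (x : G) := by
    intro μ g
    rw [Finset.mul_sum]
    simp only [← mul_assoc, ← hc, Finset.sum_mul]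
    rw [Finset.sum_comm]
    refine Finset.sum_congr rfl fun x _ => ?_
    unfold blockPair
    rw [Finset.mul_sum]
    refine Finset.sum_congr (by ext; simp [hBf]) fun χ _ => ?_
    ring
  have hgram : ∀ μ ν : IrrCharacter hP.Q, μ ≠ one → ν ≠ one →
      ∑ χ ∈ Bf, v μ χ * v ν χ =
        3 + if ν = μ ∨ ν = hP.twistQ μ ∨ ν = hP.twistQ (hP.twistQ μ) then 1 else 0 := by
    intro μ ν hμ hν
    have h : ((3 : ℂ) * 64) * (3 * 64) * ∑ χ ∈ Bf, (v μ χ : ℂ) * (v ν χ : ℂ) =
        (3 * 64) * (∑ x : ↥(P : Subgroup G), hP.orbQ μ (x : hP.Q) * hP.orbQ ν (x : hP.Q)) := by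
      calc ((3 : ℂ) * 64) * (3 * 64) * ∑ χ ∈ Bf, (v μ χ : ℂ) * (v ν χ : ℂ)
          = ∑ χ ∈ Bf, (∑ x : ↥(P : Subgroup G), hP.orbQ μ (x : hP.Q) * conj ((χ : G → ℂ) x)) *
              conj (∑ y : ↥(P : Subgroup G), hP.orbQ ν (y : hP.Q) * conj ((χ : G → ℂ) y)) := by
            rw [Finset.mul_sum]
            refine Finset.sum_congr rfl fun χ _ => ?_
            simp only [hc, map_mul, map_ofNat, map_intCast]
            ring
        _ = ∑ x : ↥(P : Subgroup G), hP.orbQ μ (x : hP.Q) * (∑ y : ↥(P : Subgroup G), hP.orbQ ν (y : hP.Q) *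
              blockPair (principalBlock M G) (y : G) (x : G)) := by
            simp only [map_sum, map_mul, Complex.conj_conj, hP.orbQ_conj, Finset.sum_mul_sum]
            rw [Finset.sum_comm]
            refine Finset.sum_congr rfl fun x _ => ?_
            rw [Finset.sum_comm, Finset.mul_sum]
            refine Finset.sum_congr rfl fun y _ => ?_
            unfold blockPair
            rw [Finset.mul_sum, Finset.mul_sum]
            refine Finset.sum_congr (by ext; simp [hBf]) fun χ _ => ?_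
            ring
        _ = _ := by
            rw [Finset.mul_sum]
            refine Finset.sum_congr rfl fun x _ => ?_
            by_cases hx : (x : hP.Q) = 1
            · rw [hx, hP.orbQ_one]; ring
            · rw [hP.pair_orbit hM hx (fun q => hP.orbQ ν q) (fun q => (hP.orbQ_tau ν q).1)]
              ring
    rw [mul_assoc, hP.sum_quot (fun q => hP.orbQ μ q * hP.orbQ ν q), hP.sum_orbQ_mul hμ hν] at h
    have h' := mul_left_cancel₀ (show (3 : ℂ) * 64 ≠ 0 by norm_num) h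
    have h'' : ((∑ χ ∈ Bf, v μ χ * v ν χ : ℤ) : ℂ) =
        ((3 + if ν = μ ∨ ν = hP.twistQ μ ∨ ν = hP.twistQ (hP.twistQ μ) then 1 else 0 : ℤ) : ℂ) := by
      refine mul_left_cancel₀ (show (3 : ℂ) * 64 ≠ 0 by norm_num) ?_
      push_cast
      refine h'.trans ?_
      split_ifs <;> push_cast <;> ring
    exact_mod_cast h''
  have hv1 : ∀ μ, μ ≠ one → v μ (principal G) = 1 := by
    intro μ hμ
    have e1 : ∀ x : ↥(P : Subgroup G), conj ((principal G : G → ℂ) x) = 1 := fun x => map_one _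
    have h1 := hsumone (principal G)
    have h2 := hsum (principal G) μ
    simp only [e1, mul_one, Finset.sum_const, Finset.card_univ, nsmul_eq_mul,
      ← Nat.card_eq_fintype_card, hA] at h1 h2
    have h3 := hP.orthQ μ one
    rw [if_neg hμ] at h3
    have e2 : ∀ q : hP.Q, (one : hP.Q → ℂ) q = 1 := fun q => rfl
    simp only [e2, mul_one] at h3
    rw [hP.sum_quot, h3, mul_zero] at h2
    have hn1 : n (principal G) one = 1 := by
      have : (64 : ℂ) * 1 = 64 * (n (principal G) one : ℂ) := by rw [mul_one]; exact h1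
      exact_mod_cast (mul_left_cancel₀ hA0 this).symm
    have hn0 : n (principal G) μ = 0 := by
      exact_mod_cast (mul_eq_zero.1 h2.symm).resolve_left hA0
    simp [hv, hn1, hn0]
  set B' := Bf.erase (principal G) with hB'
  have hgram' : ∀ μ ν : IrrCharacter hP.Q, μ ≠ one → ν ≠ one →
      ∑ χ ∈ B', v μ χ * v ν χ =
        2 + if ν = μ ∨ ν = hP.twistQ μ ∨ ν = hP.twistQ (hP.twistQ μ) then 1 else 0 := by
    intro μ ν hμ hν
    have h := hgram μ ν hμ hν
    rw [← Finset.add_sum_erase Bf _ hpr, hv1 μ hμ, hv1 ν hν] at h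
    linarith
  -- supports
  set S : IrrCharacter hP.Q → Finset (IrrCharacter G) :=
    fun μ => B'.filter fun χ => v μ χ ≠ 0 with hS
  have hS3 : ∀ μ, μ ≠ one → (S μ).card = 3 ∧ ∀ χ ∈ S μ, v μ χ = 1 ∨ v μ χ = -1 := by
    intro μ hμ
    have h := hgram' μ μ hμ hμ
    rw [if_pos (Or.inl rfl)] at h
    have hle : ∀ χ ∈ S μ, v μ χ * v μ χ ≤ 3 := fun χ hχ =>
      le_trans (Finset.single_le_sum (fun y _ => mul_self_nonneg (v μ y)) (Finset.mem_filter.1 hχ).1)
        h.le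
    have hpm : ∀ χ ∈ S μ, v μ χ = 1 ∨ v μ χ = -1 := by
      intro χ hχ
      have h1 := hle χ hχ
      have h2 := (Finset.mem_filter.1 hχ).2
      have h3 : -2 < v μ χ ∧ v μ χ < 2 := ⟨by nlinarith, by nlinarith⟩
      omega
    refine ⟨?_, hpm⟩
    have h' : ∑ χ ∈ S μ, v μ χ * v μ χ = 3 := by
      rw [show (S μ) = B'.filter fun χ => v μ χ ≠ 0 from rfl,
        Finset.sum_filter_of_ne fun χ _ hne => left_ne_zero_of_mul hne, h]
      norm_num
    rw [Finset.sum_congr rfl (fun χ hχ => by rcases hpm χ hχ with e | e <;> rw [e] <;> norm_num :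
      ∀ χ ∈ S μ, v μ χ * v μ χ = 1), Finset.sum_const, nsmul_eq_mul, mul_one] at h'
    exact_mod_cast h'
  have hmeet : ∀ μ ν, μ ≠ one → ν ≠ one →
      ¬ (ν = μ ∨ ν = hP.twistQ μ ∨ ν = hP.twistQ (hP.twistQ μ)) →
      (S μ ∩ S ν).card = 2 ∧ ∀ χ ∈ S μ ∩ S ν, v μ χ = v ν χ := by
    intro μ ν hμ hν hor
    have h := hgram' μ ν hμ hν
    rw [if_neg hor] at h
    have h' : ∑ χ ∈ S μ ∩ S ν, v μ χ * v ν χ = 2 := by
      rw [← add_zero (2 : ℤ), ← h]
      refine Finset.sum_subset (fun χ hχ => (Finset.mem_filter.1 (Finset.mem_inter.1 hχ).1).1)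
        fun χ hχ hn => ?_
      by_contra hne
      exact hn (Finset.mem_inter.2 ⟨Finset.mem_filter.2 ⟨hχ, left_ne_zero_of_mul hne⟩,
        Finset.mem_filter.2 ⟨hχ, right_ne_zero_of_mul hne⟩⟩)
    set U := S μ ∩ S ν with hU
    have hpm : ∀ χ ∈ U, v μ χ * v ν χ =
        1 - 2 * (if v μ χ = v ν χ then (0 : ℤ) else 1) := by
      intro χ hχ
      rcases (hS3 μ hμ).2 χ (Finset.mem_inter.1 hχ).1 with e | e <;>
        rcases (hS3 ν hν).2 χ (Finset.mem_inter.1 hχ).2 with e' | e' <;> rw [e, e'] <;> norm_num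
    rw [Finset.sum_congr rfl hpm, Finset.sum_sub_distrib, Finset.sum_const, nsmul_eq_mul, mul_one,
      ← Finset.mul_sum] at h'
    have hUle : U.card ≤ 3 := (hS3 μ hμ).1 ▸ Finset.card_le_card Finset.inter_subset_left
    have hle : (0 : ℤ) ≤ ∑ χ ∈ U, (if v μ χ = v ν χ then (0 : ℤ) else 1) :=
      Finset.sum_nonneg fun χ _ => by split_ifs <;> norm_num
    refine ⟨by omega, fun χ hχ => ?_⟩
    by_contra hne
    have := Finset.single_le_sum (f := fun χ => if v μ χ = v ν χ then (0 : ℤ) else 1)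
      (fun y _ => by split_ifs <;> norm_num) hχ
    simp only [if_neg hne] at this
    omega
  have hSorb : ∀ μ ν, μ ≠ one → ν ≠ one → S μ = S ν →
      ν = μ ∨ ν = hP.twistQ μ ∨ ν = hP.twistQ (hP.twistQ μ) := by
    intro μ ν hμ hν he
    by_contra hor
    have h1 := (hmeet μ ν hμ hν hor).1
    rw [← he, Finset.inter_self, (hS3 μ hμ).1] at h1
    omega
  -- the count of orbits
  set L := (Finset.univ : Finset (IrrCharacter hP.Q)).erase one with hL
  have hSmem : ∀ μ, μ ∈ L ↔ μ ≠ one := fun μ => by simp [hL]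
  have hcardirr : Fintype.card (IrrCharacter hP.Q) = 16 := by
    have h := sum_sq_degree (G := hP.Q)
    simp only [hP.linQ_one, one_pow, Finset.sum_const, nsmul_eq_mul, mul_one, Finset.card_univ,
      hP.card_quot] at h
    exact_mod_cast h
  have hLcard : L.card = 15 := by
    rw [hL, Finset.card_erase_of_mem (Finset.mem_univ _), Finset.card_univ, hcardirr]
  set F := L.image S with hF
  have himg : 5 ≤ F.card := by
    have := Finset.card_le_mul_card_image (f := S) L 3 fun s hs => by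
      obtain ⟨μ, hμ, rfl⟩ := Finset.mem_image.1 hs
      refine le_trans (Finset.card_le_card
        (t := {μ, hP.twistQ μ, hP.twistQ (hP.twistQ μ)}) fun ν hν => ?_) Finset.card_le_three
      obtain ⟨hν, hSe⟩ := Finset.mem_filter.1 hν
      simp only [Finset.mem_insert, Finset.mem_singleton]
      exact hSorb μ ν ((hSmem μ).1 hμ) ((hSmem ν).1 hν) hSe.symm
    rw [← hF] at this
    omega
  have hrep : ∀ s ∈ F, ∃ μ, μ ≠ one ∧ S μ = s := fun s hs => by
    obtain ⟨μ, hμ, rfl⟩ := Finset.mem_image.1 hs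
    exact ⟨μ, (hSmem μ).1 hμ, rfl⟩
  obtain ⟨K, hK2, hKs⟩ := common_pair F himg
    (fun s hs => by obtain ⟨μ, hμ, rfl⟩ := hrep s hs; exact (hS3 μ hμ).1)
    (fun s hs r hr hne => by
      obtain ⟨μ, hμ, rfl⟩ := hrep s hs
      obtain ⟨ν, hν, rfl⟩ := hrep r hr
      refine (hmeet μ ν hμ hν fun hor => hne ?_).1
      rcases hor with rfl | rfl | rfl <;> simp only [hS, hvtw])
  have hKS : ∀ μ, μ ≠ one → K ⊆ S μ := fun μ hμ => hKs _ (Finset.mem_image_of_mem S ((hSmem μ).2 hμ))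
  obtain ⟨χa, χb, hab, hKeq⟩ := Finset.card_eq_two.1 hK2
  have haK : χa ∈ K := by rw [hKeq]; simp
  have hbK : χb ∈ K := by rw [hKeq]; simp
  obtain ⟨s₀, hs₀⟩ : F.Nonempty := Finset.card_pos.1 (by omega)
  obtain ⟨μ₀, hμ₀, hμ₀s⟩ := hrep s₀ hs₀
  have hconst : ∀ χ ∈ K, ∀ μ, μ ≠ one → v μ χ = v μ₀ χ := by
    intro χ hχ μ hμ
    by_cases hor : μ = μ₀ ∨ μ = hP.twistQ μ₀ ∨ μ = hP.twistQ (hP.twistQ μ₀)
    · rcases hor with rfl | rfl | rfl <;> simp only [hvtw]
    · exact ((hmeet μ₀ μ hμ₀ hμ hor).2 χ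
        (Finset.mem_inter.2 ⟨hKS μ₀ hμ₀ hχ, hKS μ hμ hχ⟩)).symm
  have hthird : ∀ s ∈ F, ∃ χ, χ ∈ s ∧ χ ∉ K ∧ s = {χa, χb, χ} := by
    intro s hs
    obtain ⟨μ, hμ, rfl⟩ := hrep s hs
    obtain ⟨χ, hχ⟩ : ∃ χ, χ ∈ S μ \ K := Finset.card_pos.1 (by
      rw [Finset.card_sdiff_of_subset (hKS μ hμ), (hS3 μ hμ).1, hK2]
      norm_num)
    obtain ⟨h1, h2⟩ := Finset.mem_sdiff.1 hχ
    refine ⟨χ, h1, h2, (Finset.eq_of_subset_of_card_le ?_ ?_).symm⟩
    · intro y hy
      simp only [Finset.mem_insert, Finset.mem_singleton] at hy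
      rcases hy with rfl | rfl | rfl
      · exact hKS μ hμ haK
      · exact hKS μ hμ hbK
      · exact h1
    · have e1 : χ ≠ χa := fun e => h2 (e ▸ haK)
      have e2 : χ ≠ χb := fun e => h2 (e ▸ hbK)
      rw [(hS3 μ hμ).1, Finset.card_insert_of_notMem (by simp [hab, e1.symm]),
        Finset.card_pair e2.symm]
  choose thd hthd1 hthd2 hthd3 using hthird
  -- the values on the involutions
  obtain ⟨t, ht2, ht1⟩ : ∃ t : ↥(P : Subgroup G), t * t = 1 ∧ t ≠ 1 := by
    by_contra hno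
    push Not at hno
    haveI : Subsingleton {v : ↥(P : Subgroup G) // v * v = 1} :=
      ⟨fun a b => Subtype.ext ((hno a a.2).trans (hno b b.2).symm)⟩
    have := hP.four
    rw [Nat.card_eq_of_bijective (fun _ => (1 : Unit)) ⟨fun a b _ => Subsingleton.elim a b,
      fun _ => ⟨⟨1, mul_one 1⟩, rfl⟩⟩] at this
    simp at this
  haveI : Fintype {v : ↥(P : Subgroup G) // v * v = 1} := Fintype.ofFinite _
  have hσt : ∀ {v : ↥(P : Subgroup G)}, v * v = 1 → σ v * σ v = 1 := fun h => by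
    rw [← map_mul, h, map_one]
  have hσ1 : ∀ {v : ↥(P : Subgroup G)}, v ≠ 1 → σ v ≠ 1 := fun h e =>
    h (σ.injective (e.trans (map_one σ).symm))
  have hσne : ∀ {v : ↥(P : Subgroup G)}, v ≠ 1 → σ v ≠ v := fun h e => h (hP.fpf _ e)
  have hσσne : σ (σ t) ≠ t := fun e => hσne ht1 (by
    have := congrArg σ e
    rw [hP.cube] at this
    exact this.symm)
  have hVsum : ∀ F' : ↥(P : Subgroup G) → ℂ, ∑ v : {v : ↥(P : Subgroup G) // v * v = 1}, F' v =
      F' 1 + F' t + F' (σ t) + F' (σ (σ t)) := by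
    intro F'
    set T : Finset {v : ↥(P : Subgroup G) // v * v = 1} :=
      {⟨1, mul_one 1⟩, ⟨t, ht2⟩, ⟨σ t, hσt ht2⟩, ⟨σ (σ t), hσt (hσt ht2)⟩} with hT
    have n1 : t ≠ σ t := (hσne ht1).symm
    have n2 : σ t ≠ σ (σ t) := fun e => hσne ht1 (σ.injective e).symm
    have hTu : T = Finset.univ := by
      refine (Finset.card_eq_iff_eq_univ _).1 ?_
      rw [← Nat.card_eq_fintype_card, hP.four, hT,
        Finset.card_insert_of_notMem (by simp [Ne.symm ht1, (hσ1 ht1).symm, (hσ1 (hσ1 ht1)).symm]),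
        Finset.card_insert_of_notMem (by simp [n1, hσσne.symm]), Finset.card_pair (by simp [n2])]
    rw [← hTu, hT, Finset.sum_insert (by simp [Ne.symm ht1, (hσ1 ht1).symm, (hσ1 (hσ1 ht1)).symm]),
      Finset.sum_insert (by simp [n1, hσσne.symm]), Finset.sum_pair (by simp [n2])]
    ring
  obtain ⟨ψ, hψ1, hψoff, hψsum⟩ := hP.exists_psi ht2 ht1
  have hψt : (ψ : ↥(P : Subgroup G) → ℂ) t + (ψ : ↥(P : Subgroup G) → ℂ) (σ t) +
      (ψ : ↥(P : Subgroup G) → ℂ) (σ (σ t)) = -4 := by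
    have h := hψsum
    rw [hVsum (fun v => (ψ : ↥(P : Subgroup G) → ℂ) v), hψ1] at h
    linear_combination h
  have hconjt : ∀ χ : IrrCharacter G, conj ((χ : G → ℂ) t) = (χ : G → ℂ) t := fun χ => by
    rw [← irr_inv, ← Subgroup.coe_inv, inv_eq_of_mul_eq_one_right ht2]
  have hint : ∀ χ : IrrCharacter G, ∃ m : ℤ,
      (χ : G → ℂ) t = ((charDegree (χ : G → ℂ) : ℤ) - 16 * m : ℤ) := by
    intro χ
    obtain ⟨k, hk⟩ := IsCharacter.exists_classInner_nat (irr_isCharacter ψ)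
      (IsCharacter.restrict (irr_isCharacter χ) (P : Subgroup G))
    simp only [classInner] at hk
    rw [hA, inv_mul_eq_iff_eq_mul₀ hA0,
      ← Finset.sum_filter_add_sum_filter_not Finset.univ (fun x : ↥(P : Subgroup G) => x * x = 1),
      Finset.sum_eq_zero (s := Finset.univ.filter fun x : ↥(P : Subgroup G) => ¬ x * x = 1)
        (fun x hx => by rw [hψoff x (Finset.mem_filter.1 hx).2, zero_mul]), add_zero,
      Finset.sum_subtype (Finset.univ.filter fun x : ↥(P : Subgroup G) => x * x = 1)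
        (p := fun x => x * x = 1) (fun x => by simp)] at hk
    rw [hVsum (fun v => (ψ : ↥(P : Subgroup G) → ℂ) v * conj ((χ : G → ℂ) v))] at hk
    simp only [hinv, hconjt, hψ1, OneMemClass.coe_one, irr_one_eq_charDegree, Complex.conj_natCast] at hk
    refine ⟨(k : ℤ), ?_⟩
    push_cast
    have : (4 : ℂ) * ((charDegree (χ : G → ℂ) : ℂ) - 16 * (k : ℂ) - (χ : G → ℂ) t) = 0 := by
      linear_combination hk - (χ : G → ℂ) t * hψt
    linear_combination -((mul_eq_zero.1 this).resolve_left (by norm_num : (4 : ℂ) ≠ 0))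
  choose m hm using hint
  set at' : IrrCharacter G → ℤ := fun χ => (charDegree (χ : G → ℂ) : ℤ) - 16 * m χ with hat'
  have hat : ∀ χ : IrrCharacter G, (χ : G → ℂ) t = (at' χ : ℂ) := hm
  -- the restriction to the square roots of one
  have hrest : ∀ χ : IrrCharacter G, (charDegree (χ : G → ℂ) : ℤ) + 3 * at' χ =
      4 * (16 * (n χ one : ℤ) - ∑ μ : IrrCharacter hP.Q, v μ χ) := by
    intro χ
    have hcol : ∀ q : hP.Q, ∑ μ : IrrCharacter hP.Q, (μ : hP.Q → ℂ) q = if q = 1 then 16 else 0 := by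
      intro q
      by_cases hq : q = 1
      · subst hq
        simp [hP.linQ_one, hcardirr]
      · rw [if_neg hq]
        have h' := column_orth_of_not_isConj (g := q) (h := (1 : hP.Q))
          fun hc => hq (isConj_one_left.1 hc)
        simpa [hP.linQ_one] using h'
    have h : ∑ μ : IrrCharacter hP.Q,
        ∑ x : ↥(P : Subgroup G), (μ : hP.Q → ℂ) (x : hP.Q) * conj ((χ : G → ℂ) x) =
        16 * ((charDegree (χ : G → ℂ) : ℂ) + 3 * (at' χ : ℂ)) := by
      rw [Finset.sum_comm]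
      simp only [← Finset.sum_mul, hcol, ite_mul, zero_mul]
      rw [← Finset.sum_filter, ← Finset.mul_sum,
        Finset.sum_subtype (Finset.univ.filter fun x : ↥(P : Subgroup G) => (x : hP.Q) = 1)
          (p := fun x => x * x = 1) (fun x => by simp [hP.mem_rootsOne]),
        hVsum (fun v => conj ((χ : G → ℂ) v))]
      simp only [hinv, hconjt, OneMemClass.coe_one, irr_one_eq_charDegree, Complex.conj_natCast, hat, map_intCast]
      ring
    simp only [hsum, ← Finset.mul_sum] at h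
    have h2 : (16 : ℂ) * ((charDegree (χ : G → ℂ) : ℂ) + 3 * (at' χ : ℂ)) =
        16 * (4 * (∑ μ : IrrCharacter hP.Q, (n χ μ : ℂ))) := by rw [← h]; ring
    have h3 := mul_left_cancel₀ (by norm_num : (16 : ℂ) ≠ 0) h2
    have h4 : (charDegree (χ : G → ℂ) : ℤ) + 3 * at' χ = 4 * ∑ μ : IrrCharacter hP.Q, (n χ μ : ℤ) := by
      exact_mod_cast h3
    rw [h4]
    simp only [hv, Finset.sum_sub_distrib, Finset.sum_const, Finset.card_univ, hcardirr, nsmul_eq_mul]
    push_cast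
    ring
  have hsumK : ∀ χ ∈ K, ∑ μ : IrrCharacter hP.Q, v μ χ = 15 * v μ₀ χ := by
    intro χ hχ
    rw [← Finset.add_sum_erase _ _ (Finset.mem_univ one), hvone, zero_add,
      Finset.sum_congr rfl (fun μ hμ => hconst χ hχ μ (Finset.mem_erase.1 hμ).1), Finset.sum_const,
      ← hL, hLcard, nsmul_eq_mul]
    norm_num
  have hpm0 : ∀ χ ∈ S μ₀, v μ₀ χ = 1 ∨ v μ₀ χ = -1 := (hS3 μ₀ hμ₀).2
  have hcore : ∀ χ ∈ K, (at' χ - v μ₀ χ) % 4 = 0 := by
    intro χ hχ
    have h := hrest χ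
    rw [hsumK χ hχ] at h
    simp only [hat'] at h ⊢
    rcases hpm0 χ (hKS μ₀ hμ₀ hχ) with e | e <;> rw [e] at h ⊢ <;> omega
  have hsumd : ∀ s (hs : s ∈ F), ∀ μ, μ ≠ one → S μ = s →
      ∑ ν : IrrCharacter hP.Q, v ν (thd s hs) = 3 * v μ (thd s hs) := by
    intro s hs μ hμ hμs
    obtain ⟨d1, d2, d3⟩ := hP.twistQ_ne hμ
    rw [← Finset.sum_subset (Finset.subset_univ
      ({μ, hP.twistQ μ, hP.twistQ (hP.twistQ μ)} : Finset (IrrCharacter hP.Q))) (fun ν _ hν => ?_),
      Finset.sum_insert (by simp [d1.symm, d2.symm]), Finset.sum_pair d3.symm]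
    · simp only [hvtw]; ring
    · simp only [Finset.mem_insert, Finset.mem_singleton] at hν
      by_cases h0 : ν = one
      · rw [h0, hvone]
      by_contra hne
      have hmem : thd s hs ∈ S ν := Finset.mem_filter.2
        ⟨(Finset.mem_filter.1 (hμs.symm ▸ hthd1 s hs : thd s hs ∈ S μ)).1, hne⟩
      have hKins : insert (thd s hs) K ⊆ S μ ∩ S ν := fun y hy => by
        rcases Finset.mem_insert.1 hy with rfl | hy
        · exact Finset.mem_inter.2 ⟨hμs.symm ▸ hthd1 s hs, hmem⟩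
        · exact Finset.mem_inter.2 ⟨hKS μ hμ hy, hKS ν h0 hy⟩
      have := Finset.card_le_card hKins
      rw [Finset.card_insert_of_notMem (hthd2 s hs), hK2, (hmeet μ ν hμ h0 hν).1] at this
      omega
  -- the relation at the involution
  have hnoorb : ∀ μ : IrrCharacter hP.Q, ∀ x : ↥(P : Subgroup G),
      hP.orbQ μ (x : hP.Q) * blockPair (principalBlock M G) (t : G) (x : G) = 0 := by
    intro μ x
    by_cases hx : (x : hP.Q) = 1
    · rw [hx, hP.orbQ_one, zero_mul]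
    · refine mul_eq_zero_of_right _ (hP.pair_ne hM ⟨?_, ?_, ?_⟩)
      all_goals
        intro hc
        have e := hP.mk_eq_of_isConj hc
        rw [(QuotientGroup.eq_one_iff t).2 ht2] at e
        try rw [← SzFused.tau_mk] at e
        try rw [← SzFused.tau_mk] at e
      · exact hx e.symm
      · exact hx (hP.tau.injective (e.symm.trans (map_one _).symm))
      · exact hx (hP.tau.injective (hP.tau.injective ((e.symm.trans (map_one _).symm).trans
          (congrArg hP.tau (map_one hP.tau).symm))))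
  have hrel : ∀ (g : G), (∀ μ : IrrCharacter hP.Q, ∀ x : ↥(P : Subgroup G),
      hP.orbQ μ (x : hP.Q) * blockPair (principalBlock M G) g (x : G) = 0) →
      ∀ μ, μ ≠ one → ∑ χ ∈ Bf, (v μ χ : ℂ) * (χ : G → ℂ) g = 0 := by
    intro g hg μ _
    have h := hpairsum μ g
    rw [Finset.sum_eq_zero (fun x _ => hg μ x)] at h
    exact (mul_eq_zero.1 h).resolve_left (by norm_num)
  have hfour : ∀ s (hs : s ∈ F), ∀ μ, μ ≠ one → S μ = s → ∀ F' : IrrCharacter G → ℂ,
      ∑ χ ∈ Bf, (v μ χ : ℂ) * F' χ = F' (principal G) + (v μ₀ χa : ℂ) * F' χa +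
        (v μ₀ χb : ℂ) * F' χb + (v μ (thd s hs) : ℂ) * F' (thd s hs) := by
    intro s hs μ hμ hμs F'
    have e1 : thd s hs ≠ χa := fun e => hthd2 s hs (e ▸ haK)
    have e2 : thd s hs ≠ χb := fun e => hthd2 s hs (e ▸ hbK)
    rw [← Finset.add_sum_erase Bf _ hpr, hv1 μ hμ, ← hB',
      ← Finset.sum_filter_of_ne (s := B') (p := fun χ => v μ χ ≠ 0)
        (fun χ _ hne => fun h0 => hne (by rw [h0, Int.cast_zero, zero_mul])),
      show B'.filter (fun χ => v μ χ ≠ 0) = {χa, χb, thd s hs} from hμs.trans (hthd3 s hs),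
      Finset.sum_insert (by simp [hab, e1.symm]), Finset.sum_pair e2.symm,
      hconst χa haK μ hμ, hconst χb hbK μ hμ]
    push_cast
    ring
  set ea := v μ₀ χa with hea
  set eb := v μ₀ χb with heb
  have ka : ea = 1 ∨ ea = -1 := hpm0 χa (hKS μ₀ hμ₀ haK)
  have kb : eb = 1 ∨ eb = -1 := hpm0 χb (hKS μ₀ hμ₀ hbK)
  set q : ℤ := 1 + ea * at' χa + eb * at' χb with hq
  have hqd : ∀ s (hs : s ∈ F), ∀ μ, μ ≠ one → S μ = s →
      v μ (thd s hs) * at' (thd s hs) = -q := by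
    intro s hs μ hμ hμs
    have h := hrel t hnoorb μ hμ
    rw [hfour s hs μ hμ hμs] at h
    simp only [hat] at h
    have hp : (principal G : G → ℂ) t = 1 := rfl
    rw [← hat, hp] at h
    have h' : (1 : ℤ) + ea * at' χa + eb * at' χb + v μ (thd s hs) * at' (thd s hs) = 0 := by
      exact_mod_cast h
    rw [hq]
    linarith
  -- the norm at the involution
  have hnorm : 1 + at' χa ^ 2 + at' χb ^ 2 + 5 * q ^ 2 ≤ 64 := by
    have hpt := hP.pair_self hM ht1
    rw [show Subgroup.centralizer ({t} : Set ↥(P : Subgroup G)) = ⊤ from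
      eq_top_iff.2 fun y _ => Subgroup.mem_centralizer_singleton_iff.2 (hP.central t ht2 y),
      Subgroup.card_top, hP.card] at hpt
    have hsq : ∑ χ ∈ Bf, at' χ ^ 2 = 64 := by
      have h : ((∑ χ ∈ Bf, at' χ ^ 2 : ℤ) : ℂ) = (((64 : ℕ) : ℤ) : ℂ) := by
        rw [Int.cast_natCast, ← hpt]
        push_cast
        unfold blockPair
        refine Finset.sum_congr (by ext; simp [hBf]) fun χ _ => ?_
        rw [hat, ← hat, hconjt χ, hat]; ring
      exact_mod_cast h
    set D := F.attach.image fun s => thd s.1 s.2 with hD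
    have hDcard : D.card = F.card := by
      rw [hD, Finset.card_image_of_injective _ (fun a b e => Subtype.ext ?_), Finset.card_attach]
      rw [hthd3 a.1 a.2, hthd3 b.1 b.2]
      try simp only at e
      rw [e]
    have hDB : insert (principal G) (insert χa (insert χb D)) ⊆ Bf := by
      intro y hy
      simp only [Finset.mem_insert, hD, Finset.mem_image] at hy
      have hB : ∀ μ, μ ≠ one → ∀ z ∈ S μ, z ∈ Bf := fun μ _ z hz =>
        Finset.mem_of_mem_erase (Finset.mem_filter.1 hz).1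
      rcases hy with rfl | rfl | rfl | ⟨s, -, rfl⟩
      · exact hpr
      · exact hB μ₀ hμ₀ _ (hKS μ₀ hμ₀ haK)
      · exact hB μ₀ hμ₀ _ (hKS μ₀ hμ₀ hbK)
      · obtain ⟨μ, hμ, hμs⟩ := hrep s.1 s.2
        exact hB μ hμ _ (hμs.symm ▸ hthd1 s.1 s.2)
    have hp0 : ∀ μ, μ ≠ one → ∀ z ∈ S μ, z ≠ principal G := fun μ _ z hz =>
      (Finset.mem_erase.1 (Finset.mem_filter.1 hz).1).1
    have hle := Finset.sum_le_sum_of_subset_of_nonneg hDB (f := fun χ => at' χ ^ 2)
      fun y _ _ => sq_nonneg _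
    rw [hsq, Finset.sum_insert (by
        simp only [Finset.mem_insert, hD, Finset.mem_image]
        rintro (e | e | ⟨s, -, e⟩)
        · exact hp0 μ₀ hμ₀ _ (hKS μ₀ hμ₀ haK) e.symm
        · exact hp0 μ₀ hμ₀ _ (hKS μ₀ hμ₀ hbK) e.symm
        · obtain ⟨μ, hμ, hμs⟩ := hrep s.1 s.2
          exact hp0 μ hμ _ (show thd s.1 s.2 ∈ S μ from hμs.symm ▸ hthd1 s.1 s.2) e),
      Finset.sum_insert (by
        simp only [Finset.mem_insert, hD, Finset.mem_image]
        rintro (e | ⟨s, -, e⟩)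
        · exact hab e
        · exact hthd2 s.1 s.2 (e ▸ haK)),
      Finset.sum_insert (by
        simp only [hD, Finset.mem_image]
        rintro ⟨s, -, e⟩
        exact hthd2 s.1 s.2 (e ▸ hbK)),
      Finset.sum_congr rfl (fun y hy => by
        obtain ⟨s, -, rfl⟩ := Finset.mem_image.1 hy
        obtain ⟨μ, hμ, hμs⟩ := hrep s.1 s.2
        have h := hqd s.1 s.2 μ hμ hμs
        rcases (hS3 μ hμ).2 _ (show thd s.1 s.2 ∈ S μ from hμs.symm ▸ hthd1 s.1 s.2) with e | e <;> rw [e] at h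
        · rw [show at' (thd s.1 s.2) = -q by linarith, neg_sq]
        · rw [show at' (thd s.1 s.2) = q by linarith] : ∀ y ∈ D, at' y ^ 2 = q ^ 2),
      Finset.sum_const, hDcard, nsmul_eq_mul] at hle
    have h1 : at' (principal G) = 1 := by
      have h := hat (principal G)
      rw [show (principal G : G → ℂ) t = 1 from rfl] at h
      exact_mod_cast h.symm
    rw [h1] at hle
    have h5 : (5 : ℤ) ≤ (F.card : ℤ) := by exact_mod_cast himg
    nlinarith [sq_nonneg q]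
  -- the two equations
  set d₀ := thd s₀ hs₀ with hd₀
  set ev := v μ₀ d₀ with hev
  have kd : ev = 1 ∨ ev = -1 := hpm0 d₀ (hμ₀s.symm ▸ hthd1 s₀ hs₀)
  have hdmod : (at' d₀ - ev) % 4 = 0 := by
    have h := hrest d₀
    rw [hd₀, hsumd s₀ hs₀ μ₀ hμ₀ hμ₀s, ← hd₀, ← hev] at h
    simp only [hat'] at h ⊢
    rcases kd with e | e <;> rw [e] at h ⊢ <;> omega
  have hdeg : ∀ x : ↥(P : Subgroup G), ∀ μ : IrrCharacter hP.Q,
      hP.orbQ μ (x : hP.Q) * blockPair (principalBlock M G) (1 : G) (x : G) = 0 := by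
    intro x μ
    by_cases hx : x = 1
    · rw [hx, show ((1 : ↥(P : Subgroup G)) : hP.Q) = 1 from rfl, hP.orbQ_one, zero_mul]
    · rw [blockPair_regular_singular hM (isPBlock_principalBlock M G) (by simp) ?_, mul_zero]
      obtain ⟨k, hk⟩ := IsPGroup.iff_orderOf.1 P.2 x
      rw [Subgroup.orderOf_coe, hk]
      rcases Nat.eq_zero_or_pos k with rfl | hk0
      · exact absurd (orderOf_eq_one_iff.1 (by simpa using hk)) hx
      · exact dvd_pow_self 2 hk0.ne'
  have hdeg' := hrel 1 (fun μ x => hdeg x μ) μ₀ hμ₀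
  set I := classFinset (t : G) with hI
  have hvanish : ∀ a ∈ I, ∀ b ∈ I, ∑ χ ∈ Bf, (v μ₀ χ : ℂ) * (χ : G → ℂ) (a * b) = 0 := by
    intro a ha b hb
    refine hrel (a * b) (fun μ x => ?_) μ₀ hμ₀
    by_cases hx : (x : hP.Q) = 1
    · rw [hx, hP.orbQ_one, zero_mul]
    refine mul_eq_zero_of_right _ ?_
    obtain ⟨y, hy⟩ := exists_isPPart Nat.prime_two (a * b)
    obtain ⟨k, hk⟩ := IsPGroup.iff_orderOf.1 P.2 x
    refine blockPair_eq_zero_of_pPart hM (isPBlock_principalBlock M G) hy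
      (y := (x : G)) ⟨1, mul_one _, Commute.one_right _,
        ⟨k, by rw [Subgroup.orderOf_coe]; exact hk⟩, by simp⟩ fun hc => ?_
    have hsq : ∀ c ∈ I, c * c = 1 := by
      intro c hc'
      obtain ⟨d, rfl⟩ := isConj_iff.1 (mem_classFinset.1 hc')
      have htt : (t : G) * (t : G) = 1 := by rw [← Subgroup.coe_mul, ht2, OneMemClass.coe_one]
      calc d * (t : G) * d⁻¹ * (d * (t : G) * d⁻¹) = d * ((t : G) * t) * d⁻¹ := by group
        _ = 1 := by rw [htt, mul_one, mul_inv_cancel]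
    have hainv : a⁻¹ = a := inv_eq_of_mul_eq_one_right (hsq a ha)
    have hbinv : b⁻¹ = b := inv_eq_of_mul_eq_one_right (hsq b hb)
    have e1 : a * (a * b) * a⁻¹ = (a * b)⁻¹ := by
      rw [← mul_assoc, hsq a ha, one_mul, mul_inv_rev, hbinv, hainv]
    have h1 := IsPPart.conj hy a
    rw [e1] at h1
    have h2 := isPPart_unique Nat.prime_two h1 (IsPPart.inv hy)
    obtain ⟨e, rfl⟩ := isConj_iff.1 hc.symm
    refine not_inverted hP.central (hP.not_mem_of_mk_ne hx) (c := e⁻¹ * a * e) ?_ ?_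
    · calc e⁻¹ * a * e * (e⁻¹ * a * e) = e⁻¹ * (a * a) * e := by group
        _ = 1 := by rw [hsq a ha, mul_one, inv_mul_cancel]
    · calc e⁻¹ * a * e * (x : G) * (e⁻¹ * a * e)⁻¹ = e⁻¹ * (a * (e * x * e⁻¹) * a⁻¹) * e := by group
        _ = (x : G)⁻¹ := by rw [h2]; group
  have hscal : ∀ χ : IrrCharacter G, ∑ a ∈ I, ∑ b ∈ I, (χ : G → ℂ) (a * b) =
      (I.card : ℂ) ^ 2 * ((χ : G → ℂ) t ^ 2 / (χ : G → ℂ) 1) := by
    intro χ
    have hx : IsClassElt (classSum ℂ (t : G)) := isClassElt_classSum _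
    have hsum' : classSum ℂ (t : G) = ∑ a ∈ I, MonoidAlgebra.single a (1 : ℂ) := by
      refine gaExt fun y => ?_
      rw [coeff_classSum, MonoidAlgebra.coeff_sum, Finset.sum_apply']
      simp only [MonoidAlgebra.coeff_single, Finsupp.single_apply, Finset.sum_ite_eq', hI,
        mem_classFinset]
    have hom : ∀ g : G, omega χ (MonoidAlgebra.single g (1 : ℂ)) = (χ : G → ℂ) g / (χ : G → ℂ) 1 := by
      intro g
      simp [omega, Finsupp.single_apply]
    have h2 := omega_mul χ hx hx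
    rw [omega_classSum, centralChar, ← card_classFinset, ← hI] at h2
    rw [hsum', Finset.sum_mul, omega_sum] at h2
    simp only [Finset.mul_sum, omega_sum, MonoidAlgebra.single_mul_single, mul_one, hom,
      ← Finset.sum_div] at h2
    rw [div_eq_iff (irr_one_ne_zero χ)] at h2
    rw [h2]
    field_simp [irr_one_ne_zero χ]
  have hclass : ∑ χ ∈ Bf, (v μ₀ χ : ℂ) * ((χ : G → ℂ) t ^ 2 / (χ : G → ℂ) 1) = 0 := by
    have h0 : ∑ a ∈ I, ∑ b ∈ I, ∑ χ ∈ Bf, (v μ₀ χ : ℂ) * (χ : G → ℂ) (a * b) = 0 :=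
      Finset.sum_eq_zero fun a ha => Finset.sum_eq_zero fun b hb => hvanish a ha b hb
    rw [Finset.sum_congr rfl (fun a _ => Finset.sum_comm), Finset.sum_comm] at h0
    simp only [← Finset.mul_sum, hscal, mul_left_comm _ ((I.card : ℂ) ^ 2), ← Finset.mul_sum] at h0
    refine (mul_eq_zero.1 h0).resolve_left (pow_ne_zero 2 (Nat.cast_ne_zero.2 ?_))
    exact Finset.card_ne_zero.2 ⟨_, mem_classFinset.2 (IsConj.refl _)⟩
  rw [hfour s₀ hs₀ μ₀ hμ₀ hμ₀s, ← hd₀, ← hev] at hdeg' hclass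
  have hp1 : ∀ g : G, (principal G : G → ℂ) g = 1 := fun g => rfl
  rw [hp1, irr_one_eq_charDegree, irr_one_eq_charDegree, irr_one_eq_charDegree] at hdeg'
  rw [hp1, hp1, hat, hat, hat, irr_one_eq_charDegree, irr_one_eq_charDegree,
    irr_one_eq_charDegree] at hclass
  set da := charDegree (χa : G → ℂ) with hda
  set db := charDegree (χb : G → ℂ) with hdb
  set dd := charDegree (d₀ : G → ℂ) with hdd
  have hA16 : ((ea * da : ℤ) - ea * at' χa) % 16 = 0 := by
    simp only [hat', ← hda]; rw [← mul_sub]; exact Int.emod_eq_zero_of_dvd ⟨ea * m χa, by ring⟩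
  have hB16 : ((eb * db : ℤ) - eb * at' χb) % 16 = 0 := by
    simp only [hat', ← hdb]; rw [← mul_sub]; exact Int.emod_eq_zero_of_dvd ⟨eb * m χb, by ring⟩
  have hqe : ev * at' d₀ = -q := hqd s₀ hs₀ μ₀ hμ₀ hμ₀s
  have hD16 : ((ev * dd : ℤ) + q) % 16 = 0 := by
    rw [show (ev * dd : ℤ) + q = ev * dd - ev * at' d₀ by rw [hqe]; ring]
    simp only [hat', ← hdd]; rw [← mul_sub]; exact Int.emod_eq_zero_of_dvd ⟨ev * m d₀, by ring⟩
  have hsum0 : (1 + ea * da + eb * db + ev * dd : ℤ) = 0 := by exact_mod_cast hdeg'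
  set α := ea * at' χa with hα
  set β := eb * at' χb with hβ
  have hα4 : (α - 1) % 4 = 0 := by
    have := hcore χa haK
    rw [← hea] at this
    rcases ka with e | e <;> rw [hα, e] <;> rw [e] at this <;> omega
  have hβ4 : (β - 1) % 4 = 0 := by
    have := hcore χb hbK
    rw [← heb] at this
    rcases kb with e | e <;> rw [hβ, e] <;> rw [e] at this <;> omega
  have hq4 : (q + 1) % 4 = 0 := by
    rcases kd with e | e <;> rw [e] at hdmod hqe <;> omega
  have hn2 : 1 + α ^ 2 + β ^ 2 + 5 * q ^ 2 ≤ 64 := by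
    have e1 : α ^ 2 = at' χa ^ 2 := by rcases ka with e | e <;> rw [hα, e] <;> ring
    have e2 : β ^ 2 = at' χb ^ 2 := by rcases kb with e | e <;> rw [hβ, e] <;> ring
    rw [e1, e2]
    exact hnorm
  have hcl : 1 + (α : ℚ) ^ 2 / ((ea * da : ℤ) : ℚ) + (β : ℚ) ^ 2 / ((eb * db : ℤ) : ℚ) +
      (q : ℚ) ^ 2 / ((ev * dd : ℤ) : ℚ) = 0 := by
    have h' : 1 + (ea : ℚ) * ((at' χa : ℚ) ^ 2 / da) + (eb : ℚ) * ((at' χb : ℚ) ^ 2 / db) +
        (ev : ℚ) * ((at' d₀ : ℚ) ^ 2 / dd) = 0 := by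
      have h'' : ((1 + (ea : ℚ) * ((at' χa : ℚ) ^ 2 / da) + (eb : ℚ) * ((at' χb : ℚ) ^ 2 / db) +
          (ev : ℚ) * ((at' d₀ : ℚ) ^ 2 / dd) : ℚ) : ℂ) = ((0 : ℚ) : ℂ) := by
        push_cast
        rw [← hclass]
        ring
      exact_mod_cast h''
    have e1 : ∀ (e x : ℤ) (d : ℕ), e = 1 ∨ e = -1 →
        (e : ℚ) * ((x : ℚ) ^ 2 / d) = (((e * x : ℤ)) : ℚ) ^ 2 / ((e * d : ℤ) : ℚ) := by
      rintro e x d (rfl | rfl) <;> push_cast <;> ring
    rw [e1 _ _ _ ka, e1 _ _ _ kb, e1 _ _ _ kd, hqe, ← hα, ← hβ] at h'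
    push_cast at h' ⊢
    linear_combination h'
  have key : ea * (da : ℤ) = 1 ∨ eb * (db : ℤ) = 1 ∨ ev * (dd : ℤ) = 1 :=
    arith_finish hα4 hβ4 hq4 (by rw [hq, hα, hβ]) hn2 hA16 hB16 hD16 hsum0 hcl
  have hnep : ∀ χ ∈ S μ₀, χ ≠ principal G := fun χ hχ =>
    (Finset.mem_erase.1 (Finset.mem_filter.1 hχ).1).1
  have fin : ∀ χ ∈ S μ₀, v μ₀ χ * (charDegree (χ : G → ℂ) : ℤ) = 1 →
      ∃ χ : IrrCharacter G, χ ≠ principal G ∧ (χ : G → ℂ) 1 = 1 := by
    intro χ hχ h
    have he : charDegree (χ : G → ℂ) = 1 := by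
      rcases hpm0 χ hχ with e | e <;> rw [e] at h <;> omega
    exact ⟨χ, hnep χ hχ, by rw [irr_one_eq_charDegree, he, Nat.cast_one]⟩
  rcases key with h | h | h
  · exact fin χa (hKS μ₀ hμ₀ haK) h
  · exact fin χb (hKS μ₀ hμ₀ hbK) h
  · exact fin d₀ (hμ₀s.symm ▸ hthd1 s₀ hs₀) h

end Cfsg.Agent.CenNilp
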