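import Cfsg.Agent.Lib.CenNilp.Basic
import Cfsg.Agent.Lib.CenNilp.SzLinear
import Cfsg.Agent.Lib.LocalEven.U34Uniq
import Cfsg.Agent.Lib.GW.Main
import Cfsg.Agent.Lib.Transfer.Fusion
import Cfsg.Agent.Lib.TwoGroups.InvolCentralizer
import Cfsg.Agent.S0516
import Cfsg.Agent.S1141
import Cfsg.Agent.S1213
import Mathlib.FieldTheory.Finite.GaloisField

/-!
Simple groups of 2-rank two with 2-nilpotent centralisers of involutions.
-/

set_option autoImplicit false
set_option linter.style.haveILetI false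
set_option linter.unusedSectionVars false

namespace Cfsg.Agent.CenNilp

open Subgroup Cfsg.Agent.Char Cfsg.Agent.Blocks

universe u

variable {G : Type u} [Group G] [Finite G]

theorem index_ne_two [IsSimpleGroup G] (hG : ¬ IsMulCommutative G) (H : Subgroup G) : H.index ≠ 2 := by
  intro h
  haveI := Subgroup.normal_of_index_eq_two h
  rcases (inferInstance : H.Normal).eq_bot_or_eq_top with e | e
  · rw [e, Subgroup.index_bot] at h
    haveI : Fact (Nat.Prime 2) := ⟨Nat.prime_two⟩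
    haveI := isCyclic_of_prime_card (p := 2) h
    letI := IsCyclic.commGroup (α := G)
    exact hG ⟨⟨mul_comm⟩⟩
  · rw [e, Subgroup.index_top] at h
    omega

theorem exists_involution [IsSimpleGroup G] (hG : ¬ IsMulCommutative G) : ∃ t : G, orderOf t = 2 := by
  haveI : Fact (Nat.Prime 2) := ⟨Nat.prime_two⟩
  exact exists_prime_orderOf_dvd_card' 2
    (even_iff_two_dvd.1 (Nat.not_odd_iff_even.1 (AlperinRankTwo.not_odd hG)))

/-- Semidihedral and wreathed Sylow subgroups do not occur. -/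
theorem not_qd_wreathed [IsSimpleGroup G] (hG : ¬ IsMulCommutative G) (hI : CenTwoNilp G) (S : Sylow 2 G)
    (hS : Cfsg.IsQuasiDihedral (S : Subgroup G) ∨ Cfsg.IsWreathed (S : Subgroup G)) : False := by
  haveI : Fact (Nat.Prime 2) := ⟨Nat.prime_two⟩
  obtain ⟨t, ht⟩ := exists_involution hG
  obtain ⟨-, -, ⟨K, -, -, hno, hQ⟩, -⟩ := S1213.result S hS (index_ne_two hG) t ht
  obtain ⟨P⟩ := (inferInstance : Nonempty (Sylow 2 ↥K))
  obtain ⟨m, hm, ⟨e⟩⟩ := hQ P
  have h2 : 2 ∣ Nat.card ↥K := by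
    refine dvd_trans ?_ (Subgroup.card_subgroup_dvd_card (P : Subgroup ↥K))
    rw [Nat.card_congr e.toEquiv]
    haveI : NeZero (2 ^ m) := ⟨pow_ne_zero _ two_ne_zero⟩
    rw [Nat.card_eq_fintype_card, QuaternionGroup.card]
    exact ⟨2 * 2 ^ m, by ring⟩
  obtain ⟨H, hH⟩ := InvCent.exists_index_two_of_complement (PBasic.hasNormalPComplement_subgroup K (hI t ht)) h2
  exact hno H hH

theorem b2_sq : ∀ q : U34Uniq.B × U34Uniq.B, q * q = 1 := by decide

theorem form_surj : ∀ p : U34Uniq.B × U34Uniq.B × U34Uniq.B × U34Uniq.B, p ≠ 1 →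
    ∀ n : U34Uniq.B × U34Uniq.B, ∃ y,
      U34Uniq.NF.form (p * y) * U34Uniq.NF.form p * U34Uniq.NF.form y = n := by
  decide +kernel

/-- The Sylow subgroup of the unitary group with trivial principal linear character. -/
theorem not_u34_sylow [IsSimpleGroup G] (hG : ¬ IsMulCommutative G) (hI : CenTwoNilp G) (S : Sylow 2 G)
    (hSz : Cfsg.IsSuzukiTwoGroup ↥(S : Subgroup G)) (hcard : Nat.card (S : Subgroup G) = 64)
    (hZ : Nat.card (Subgroup.center ↥(S : Subgroup G)) = 4) : False := by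
  classical
  haveI : Fact (Nat.Prime 2) := ⟨Nat.prime_two⟩
  have hna := hSz.2.2.1
  obtain ⟨D, -⟩ := Suzuki2.exists_datum hSz
  rw [D.center_eq_V hna] at hZ
  obtain ⟨N⟩ := U34Uniq.exists_NF D hna hZ hcard
  obtain ⟨π, hπs, hπk, hπ⟩ := N.exists_proj hcard
  have hcen : ∀ v : ↥(S : Subgroup G), v * v = 1 → ∀ y, y * v = v * y := fun v hv y =>
    Subgroup.mem_center_iff.1 (D.involution_central hv) y
  have hsqV : ∀ x : ↥(S : Subgroup G), x * x * (x * x) = 1 := fun x => D.sq_mem_V hna x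
  -- a fusion of odd order
  obtain ⟨z, hz, hz1⟩ := D.exists_ne_one
  have hzo : orderOf (z : G) = 2 := by
    rw [Subgroup.orderOf_coe]
    exact orderOf_eq_prime (by rw [pow_two]; exact hz) hz1
  obtain ⟨g, hgS, hgne⟩ : ∃ g : G, g * (z : G) * g⁻¹ ∈ (S : Subgroup G) ∧ g * (z : G) * g⁻¹ ≠ z := by
    by_contra hno
    push Not at hno
    exact AlperinRankTwo.not_weakly_closed hG S hzo z.2 hno
  set z' : ↥(S : Subgroup G) := ⟨g * (z : G) * g⁻¹, hgS⟩ with hz'
  have hfix : ∀ v : ↥(S : Subgroup G), v * v = 1 → ∀ x ∈ (S : Subgroup G),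
      (fun y => x * y * x⁻¹) '' ({(v : G)} : Set G) = {(v : G)} := by
    intro v hv x hx
    rw [Set.image_singleton, Set.singleton_eq_singleton_iff]
    rw [mul_inv_eq_iff_eq_mul]
    exact congrArg Subtype.val (hcen v hv ⟨x, hx⟩)
  have hz'2 : z' * z' = 1 := Subtype.ext (by
    show g * (z : G) * g⁻¹ * (g * z * g⁻¹) = 1
    rw [show g * (z : G) * g⁻¹ * (g * z * g⁻¹) = g * ((z : G) * z) * g⁻¹ by group,
      show ((z : G) * z) = 1 from congrArg Subtype.val (show z * z = 1 from hz), mul_one, mul_inv_cancel])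
  obtain ⟨n, hn, hnz⟩ := Fusion.conj_normalizer_of_conj S ({(z : G)} : Set G) {(z' : G)}
    (hfix z hz) (hfix z' hz'2) g (by simp [hz'])
  rw [Set.image_singleton, Set.singleton_eq_singleton_iff] at hnz
  -- odd part
  obtain ⟨k, m, hm, hnm⟩ := Nat.exists_eq_two_pow_mul_odd (orderOf_pos n).ne'
  have hnormmem : ∀ (j : ℕ) (s : ↥(S : Subgroup G)), n ^ j * (s : G) * (n ^ j)⁻¹ ∈ (S : Subgroup G) := fun j s =>
    (Subgroup.mem_normalizer_iff.1 (pow_mem hn j) s).1 s.2
  have h2part : n ^ m ∈ (S : Subgroup G) := by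
    set N' := normalizer ((S : Subgroup G) : Set G)
    have hp : IsPGroup 2 ↥(zpowers (n ^ m)) := by
      refine IsPGroup.of_card (n := k) ?_
      rw [Nat.card_zpowers, orderOf_pow_of_dvd hm.pos.ne' (hnm ▸ Dvd.intro_left _ rfl), hnm,
        Nat.mul_div_cancel _ hm.pos]
    have hsup : IsPGroup 2 ↥((zpowers (n ^ m)) ⊔ (S : Subgroup G)) :=
      hp.to_sup_of_normal_right' S.2 (zpowers_le.2 (pow_mem hn m))
    exact (S.3 hsup le_sup_right).le (mem_sup_left (mem_zpowers _))
  set x := n ^ 2 ^ k with hxdef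
  have hxm : orderOf x = m := by
    rw [hxdef, orderOf_pow_of_dvd (pow_ne_zero _ two_ne_zero) (hnm ▸ Dvd.intro _ rfl), hnm,
      Nat.mul_div_cancel_left _ (pow_pos two_pos k)]
  have hxN : x ∈ normalizer ((S : Subgroup G) : Set G) := pow_mem hn _
  have hxS : ∀ s ∈ (S : Subgroup G), x * s * x⁻¹ ∈ (S : Subgroup G) := fun s hs => hnormmem _ ⟨s, hs⟩
  have hxz : x * (z : G) ≠ z * x := by
    intro hc
    have h1 : n ^ (2 ^ k) ∈ centralizer ({(z : G)} : Set G) := mem_centralizer_singleton_iff.2 hc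
    have h2 : n ^ m ∈ centralizer ({(z : G)} : Set G) := mem_centralizer_singleton_iff.2
      (congrArg Subtype.val (hcen z hz ⟨_, h2part⟩))
    have h3 := mul_mem (zpow_mem h1 (Nat.gcdA (2 ^ k) m)) (zpow_mem h2 (Nat.gcdB (2 ^ k) m))
    rw [← zpow_natCast n (2 ^ k), ← zpow_natCast n m, ← zpow_mul, ← zpow_mul, ← zpow_add,
      ← Nat.gcd_eq_gcd_ab, (Nat.coprime_two_left.2 hm).pow_left k, Nat.cast_one, zpow_one,
      mem_centralizer_singleton_iff] at h3
    apply hgne
    show (z' : G) = z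
    rw [← hnz, h3, mul_inv_cancel_right]
  have hfixS : ∀ y : G, Odd (orderOf y) → (∀ s ∈ (S : Subgroup G), y * s * y⁻¹ ∈ (S : Subgroup G)) →
      ∀ v : ↥(S : Subgroup G), v * v = 1 → v ≠ 1 → y * (v : G) = v * y →
      ∀ s ∈ (S : Subgroup G), y * s = s * y := by
    intro y hy hyS v hv hv1 hyv s hs
    refine odd_fix hI S.2 (t := (v : G)) ?_ hy hyv hyS hs (congrArg Subtype.val (hcen v hv ⟨s, hs⟩))
    rw [Subgroup.orderOf_coe]
    exact orderOf_eq_prime (by rw [pow_two]; exact hv) hv1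
  let σ : ↥(S : Subgroup G) ≃* ↥(S : Subgroup G) :=
    { toFun := fun s => ⟨x * (s : G) * x⁻¹, hxS _ s.2⟩
      invFun := fun s => ⟨x⁻¹ * (s : G) * x, by
        have := (Subgroup.mem_normalizer_iff.1 (inv_mem hxN) (s : G)).1 s.2
        rwa [inv_inv] at this⟩
      left_inv := fun s => Subtype.ext (by group)
      right_inv := fun s => Subtype.ext (by group)
      map_mul' := fun s t => Subtype.ext (by simp only [Subgroup.coe_mul]; group) }
  have hσval : ∀ s, ((σ s : ↥(S : Subgroup G)) : G) = x * (s : G) * x⁻¹ := fun s => rfl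
  have hxodd : Odd (orderOf x) := hxm ▸ hm
  have hfpfV : ∀ v : ↥(S : Subgroup G), v * v = 1 → v ≠ 1 → σ v ≠ v := by
    intro v hv hv1 e
    have he := congrArg Subtype.val e
    rw [hσval, mul_inv_eq_iff_eq_mul] at he
    exact hxz (hfixS x hxodd hxS v hv hv1 he _ z.2)
  have hfpf : ∀ s, σ s = s → s = 1 := by
    intro s e
    by_contra hs
    have he : x * (s : G) * x⁻¹ = s := congrArg Subtype.val e
    by_cases hs2 : s * s = 1
    · exact hfpfV s hs2 hs e
    · refine hfpfV (s * s) (hsqV s) hs2 ?_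
      rw [map_mul, e]
  have hσV : ∀ v : ↥(S : Subgroup G), v * v = 1 → σ v * σ v = 1 := fun v hv => by
    rw [← map_mul, hv, map_one]
  have hσ1 : ∀ v : ↥(S : Subgroup G), v ≠ 1 → σ v ≠ 1 := fun v hv e =>
    hv (σ.injective (e.trans (map_one σ).symm))
  have hfour : Nat.card {v : ↥(S : Subgroup G) // v * v = 1} = 4 :=
    (Nat.card_congr (Equiv.subtypeEquivRight fun v => (D.mem_V (x := v)).symm)).trans hZ
  have hperm : ∀ e : Equiv.Perm {v : {v : ↥(S : Subgroup G) // v * v = 1} // v.1 ≠ 1},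
      (∀ v, e v ≠ v) → ∀ v, e (e (e v)) = v := by
    intro e he
    haveI : Fintype {v : {v : ↥(S : Subgroup G) // v * v = 1} // v.1 ≠ 1} := Fintype.ofFinite _
    haveI : Fintype {v : ↥(S : Subgroup G) // v * v = 1} := Fintype.ofFinite _
    have hc : Fintype.card {v : {v : ↥(S : Subgroup G) // v * v = 1} // v.1 ≠ 1} = 3 := by
      have h := Fintype.card_subtype_compl (fun v : {v : ↥(S : Subgroup G) // v * v = 1} => v.1 = 1)
      have h1 : Fintype.card {v : {v : ↥(S : Subgroup G) // v * v = 1} // v.1 = 1} = 1 :=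
        Fintype.card_eq_one_iff.2 ⟨⟨⟨1, mul_one 1⟩, rfl⟩, fun v => Subtype.ext (Subtype.ext v.2)⟩
      rw [Nat.card_eq_fintype_card] at hfour
      rw [h1, hfour] at h
      convert h using 1
    have key : ∀ e : Equiv.Perm (Fin 3), (∀ v, e v ≠ v) → ∀ v, e (e (e v)) = v := by decide
    obtain ⟨f⟩ := Fintype.card_eq.1 (hc.trans (Fintype.card_fin 3).symm)
    intro v
    have h := key (f.permCongr e) (fun w => by
      rw [Equiv.permCongr_apply]
      intro h
      exact he (f.symm w) (f.injective (by simpa using h))) (f v)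
    simp only [Equiv.permCongr_apply, Equiv.symm_apply_apply] at h
    exact f.injective h
  have hσ3V : ∀ v : ↥(S : Subgroup G), v * v = 1 → v ≠ 1 → σ (σ (σ v)) = v := by
    intro v hv hv1
    let e : Equiv.Perm {v : {v : ↥(S : Subgroup G) // v * v = 1} // v.1 ≠ 1} :=
      Equiv.ofBijective (fun w => ⟨⟨σ w.1.1, hσV _ w.1.2⟩, hσ1 _ w.2⟩)
        (Finite.injective_iff_bijective.1 fun a b h =>
          Subtype.ext (Subtype.ext (σ.injective (congrArg (fun w => w.1.1) h))))
    exact congrArg (fun w => w.1.1) (hperm e (fun w h => hfpfV w.1.1 w.1.2 w.2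
      (congrArg (fun w => w.1.1) h)) ⟨⟨v, hv⟩, hv1⟩)
  have hcube : ∀ s, σ (σ (σ s)) = s := by
    intro s
    have hy : Odd (orderOf (x * x * x)) := by
      obtain ⟨c, hc⟩ := orderOf_pow_dvd (x := x) 3
      rw [show x * x * x = x ^ 3 by rw [pow_succ, pow_two]]
      rw [hc] at hxodd
      exact (Nat.odd_mul.1 hxodd).1
    have hyS : ∀ s ∈ (S : Subgroup G), x * x * x * s * (x * x * x)⁻¹ ∈ (S : Subgroup G) := fun s hs => by
      rw [show x * x * x * s * (x * x * x)⁻¹ = x * (x * (x * s * x⁻¹) * x⁻¹) * x⁻¹ by group]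
      exact hxS _ (hxS _ (hxS _ hs))
    have hyz := congrArg Subtype.val (hσ3V z hz hz1)
    simp only [hσval] at hyz
    have h := hfixS _ hy hyS z hz hz1 (by
      calc x * x * x * (z : G) = x * (x * (x * z * x⁻¹) * x⁻¹) * x⁻¹ * (x * x * x) := by group
        _ = z * (x * x * x) := by rw [hyz]) _ s.2
    refine Subtype.ext ?_
    simp only [hσval]
    calc x * (x * (x * (s : G) * x⁻¹) * x⁻¹) * x⁻¹ = x * x * x * s * (x * x * x)⁻¹ := by group
      _ = s := by rw [h, mul_inv_cancel_right]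
  -- the centraliser of an involution of the Sylow subgroup
  have hdec : ∀ v : ↥(S : Subgroup G), v * v = 1 → v ≠ 1 → ∀ c : G, c * (v : G) = v * c →
      ∃ o ∈ Cfsg.centralizerPPrimeCore 2 (v : G), ∃ s ∈ (S : Subgroup G), c = o * s := by
    intro v hv hv1 c hc
    have ho : orderOf (v : G) = 2 := by
      rw [Subgroup.orderOf_coe]
      exact orderOf_eq_prime (by rw [pow_two]; exact hv) hv1
    have hSC : (S : Subgroup G) ≤ centralizer ({(v : G)} : Set G) := fun s hs =>
      mem_centralizer_singleton_iff.2 (congrArg Subtype.val (hcen v hv ⟨s, hs⟩))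
    haveI := FittingCores.pPrimeCore_normal (G := ↥(centralizer ({(v : G)} : Set G))) 2
    have htop := (sup_comm _ _).trans (PBasic.sylow_sup_eq_top (S.subtype hSC) (PBasic.quotient_pPrimeCore_isPGroup (hI _ ho)))
    have hc' : (⟨c, mem_centralizer_singleton_iff.2 hc⟩ : ↥(centralizer ({(v : G)} : Set G))) ∈
        Cfsg.pPrimeCore 2 ↥(centralizer ({(v : G)} : Set G)) ⊔ ((S.subtype hSC : Sylow 2 _) : Subgroup _) :=
      htop ▸ mem_top _
    obtain ⟨o, ho', s, hs, he⟩ := mem_sup_of_normal_left.1 hc'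
    exact ⟨o, ⟨o, ho', rfl⟩, s, hs, (congrArg Subtype.val he).symm⟩
  have hpow : ∀ a : ↥(S : Subgroup G), a ≠ 1 → ∃ j : ℕ, (a ^ j) * (a ^ j) = 1 ∧ a ^ j ≠ 1 := by
    intro a ha
    by_cases ha2 : a * a = 1
    · exact ⟨1, by rwa [pow_one], by rwa [pow_one]⟩
    · exact ⟨2, by rw [pow_two]; exact hsqV a, by rwa [pow_two]⟩
  letI : Fintype G := Fintype.ofFinite G
  have hP : SzFused S σ := by
    refine ⟨hcard, hcen, hfour, hsqV, ?_, hcube, hfpf, fun s => isConj_iff.2 ⟨x, rfl⟩, ?_, ?_, ?_⟩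
    · intro a ha v hv
      have hrange : ∀ w : ↥(S : Subgroup G), w * w = 1 → π w = 1 := by
        intro w hw
        refine U34Uniq.NF.form_eq_one _ (N.iV_injective ?_)
        rw [← hπ, hw, map_one]
      obtain ⟨k', hk'⟩ : v ∈ N.iV.range := by rw [← hπk]; exact hrange v hv
      have hsurjform := form_surj
      obtain ⟨y, hy⟩ := hsurjform (π a) (fun e => ha (by
        have : a ∈ N.iV.range := by rw [← hπk]; exact e
        obtain ⟨q, rfl⟩ := this
        rw [← map_mul, b2_sq q, map_one])) k'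
      obtain ⟨w, rfl⟩ := hπs y
      refine ⟨w, ?_⟩
      have hinv : ∀ q, (N.iV q)⁻¹ = N.iV q := fun q => inv_eq_of_mul_eq_one_right (by
        rw [← map_mul, b2_sq q, map_one])
      calc a * w * a⁻¹ * w⁻¹ = a * w * (a * w) * (w⁻¹ * (a * a)⁻¹ * w⁻¹) := by group
        _ = a * w * (a * w) * ((a * a)⁻¹ * (w * w)⁻¹) := by
          rw [hπ a, hinv, N.iV_central _ w⁻¹]; group
        _ = v := by rw [hπ, hπ, hπ, hinv, hinv, ← map_mul, ← map_mul, map_mul π, ← mul_assoc, hy, hk']
    · intro a b hab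
      obtain ⟨g, hg⟩ := isConj_iff.1 hab
      by_cases ha : a = 1
      · subst ha
        rw [OneMemClass.coe_one, mul_one, mul_inv_cancel] at hg
        left
        rw [show b = 1 from Subtype.ext hg.symm]
      obtain ⟨j, hj2, hj1⟩ := hpow a ha
      set t := a ^ j with ht
      have hbt : g * (t : G) * g⁻¹ = ((b ^ j : ↥(S : Subgroup G)) : G) := by
        rw [ht, SubmonoidClass.coe_pow, SubmonoidClass.coe_pow, ← hg, conj_pow]
      have hb2 : b ^ j * b ^ j = 1 := Subtype.ext (by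
        rw [Subgroup.coe_mul, ← hbt, show g * (t : G) * g⁻¹ * (g * t * g⁻¹) = g * ((t : G) * t) * g⁻¹ by group,
          show (t : G) * t = 1 from congrArg Subtype.val hj2, mul_one, mul_inv_cancel, OneMemClass.coe_one])
      have hb1 : b ^ j ≠ 1 := fun e => hj1 (Subtype.ext (conj_eq_one_iff.1 (hbt.trans (congrArg Subtype.val e))))
      -- the orbit of the power
      have horb : b ^ j = t ∨ b ^ j = σ t ∨ b ^ j = σ (σ t) := by
        by_contra hno
        push Not at hno
        haveI : Fintype {v : ↥(S : Subgroup G) // v * v = 1} := Fintype.ofFinite _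
        have n1 : σ (σ t) ≠ t := fun e => hfpfV t hj2 hj1 (by
          have := congrArg σ e
          rw [hσ3V t hj2 hj1] at this
          exact this.symm)
        have hT : ({⟨1, mul_one 1⟩, ⟨b ^ j, hb2⟩, ⟨t, hj2⟩, ⟨σ t, hσV _ hj2⟩, ⟨σ (σ t), hσV _ (hσV _ hj2)⟩} :
            Finset {v : ↥(S : Subgroup G) // v * v = 1}).card = 5 := by
          rw [Finset.card_insert_of_notMem (by simp [hb1.symm, Ne.symm hj1, (hσ1 _ hj1).symm, (hσ1 _ (hσ1 _ hj1)).symm]),
            Finset.card_insert_of_notMem (by simp [hno.1, hno.2.1, hno.2.2]),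
            Finset.card_insert_of_notMem (by simp [(hfpfV t hj2 hj1).symm, n1.symm]),
            Finset.card_pair (by
              intro e
              exact hfpfV t hj2 hj1 (σ.injective (congrArg Subtype.val e)).symm)]
        have hle := Finset.card_le_univ ({⟨1, mul_one 1⟩, ⟨b ^ j, hb2⟩, ⟨t, hj2⟩, ⟨σ t, hσV _ hj2⟩,
          ⟨σ (σ t), hσV _ (hσV _ hj2)⟩} : Finset {v : ↥(S : Subgroup G) // v * v = 1})
        rw [hT, ← Nat.card_eq_fintype_card, hfour] at hle
        omega
      -- fusion inside the centraliser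
      have hin : ∀ g' : G, ∀ b' : ↥(S : Subgroup G), g' * (t : G) = t * g' → g' * (a : G) * g'⁻¹ = b' →
          IsConj a b' := by
        intro g' b' hc he
        obtain ⟨o, ho, s, hs, rfl⟩ := hdec t hj2 hj1 g' hc
        refine isConj_iff.2 ⟨⟨s, hs⟩, Subtype.ext ?_⟩
        show s * (a : G) * s⁻¹ = b'
        set a' := s * (a : G) * s⁻¹ with ha'
        have ha'S : a' ∈ (S : Subgroup G) := mul_mem (mul_mem hs a.2) (inv_mem hs)
        have he' : o * a' * o⁻¹ = b' := by rw [← he, ha']; group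
        have h1 : (b' : G) * a'⁻¹ ∈ Cfsg.centralizerPPrimeCore 2 (t : G) := by
          rw [← he', show o * a' * o⁻¹ * a'⁻¹ = o * (a' * o⁻¹ * a'⁻¹) by group]
          exact mul_mem ho (core_conj hI (congrArg Subtype.val (hcen t hj2 ⟨a', ha'S⟩)) (inv_mem ho))
        have h2 := eq_one_of_two_odd S.2 (odd_core hI) (mul_mem b'.2 (inv_mem ha'S)) h1
        exact (mul_inv_eq_one.1 h2).symm
      rcases horb with e | e | e <;> have he := (congrArg Subtype.val e) <;> rw [← hbt] at he
      · exact Or.inl (hin g b (mul_inv_eq_iff_eq_mul.1 he) hg)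
      · refine Or.inr (Or.inl ?_)
        rw [hσval] at he
        have h := hin (x⁻¹ * g) (σ.symm b) ?_ ?_
        · simpa using σ.toMonoidHom.map_isConj h
        · calc x⁻¹ * g * (t : G) = x⁻¹ * (g * t * g⁻¹) * g := by group
            _ = t * (x⁻¹ * g) := by rw [he]; group
        · show x⁻¹ * g * (a : G) * (x⁻¹ * g)⁻¹ = x⁻¹ * b * x
          rw [← hg]; group
      · refine Or.inr (Or.inr ?_)
        rw [hσval, hσval] at he
        have h := hin (x⁻¹ * x⁻¹ * g) (σ.symm (σ.symm b)) ?_ ?_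
        · simpa using σ.toMonoidHom.map_isConj (σ.toMonoidHom.map_isConj h)
        · calc x⁻¹ * x⁻¹ * g * (t : G) = x⁻¹ * x⁻¹ * (g * t * g⁻¹) * g := by group
            _ = t * (x⁻¹ * x⁻¹ * g) := by rw [he]; group
        · show x⁻¹ * x⁻¹ * g * (a : G) * (x⁻¹ * x⁻¹ * g)⁻¹ = x⁻¹ * (x⁻¹ * b * x) * x
          rw [← hg]; simp only [mul_inv_rev, inv_inv, mul_assoc]
    · intro a ha
      obtain ⟨j, hj2, hj1⟩ := hpow a ha
      have ho : orderOf ((a ^ j : ↥(S : Subgroup G)) : G) = 2 := by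
        rw [Subgroup.orderOf_coe]
        exact orderOf_eq_prime (by rw [pow_two]; exact hj2) hj1
      have hle : centralizer ({(a : G)} : Set G) ≤ centralizer ({((a ^ j : ↥(S : Subgroup G)) : G)} : Set G) :=
        fun c hc => mem_centralizer_singleton_iff.2 (by
          rw [SubmonoidClass.coe_pow]
          exact ((show Commute c (a : G) from mem_centralizer_singleton_iff.1 hc).pow_right j).eq)
      have hc := PBasic.hasNormalPComplement_of_injective (Subgroup.inclusion hle)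
        (Subgroup.inclusion_injective hle) (hI _ ho)
      obtain ⟨N', hN', hN'2, hN'k⟩ := PBasic.hasNormalPComplement_iff.1 hc
      exact ⟨N', hN', (Nat.prime_two.coprime_iff_not_dvd.1 hN'2.symm), hN'k⟩
    · intro a ha
      obtain ⟨j, hj2, hj1⟩ := hpow a ha
      set t := a ^ j with ht
      set C := centralizer ({(a : G)} : Set G) with hC
      set O := Cfsg.centralizerPPrimeCore 2 (t : G) with hO
      set R := centralizer ({a} : Set ↥(S : Subgroup G)) with hR
      have hCt : ∀ c ∈ C, c * (t : G) = t * c := fun c hc => by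
        rw [ht, SubmonoidClass.coe_pow]
        exact ((show Commute c (a : G) from mem_centralizer_singleton_iff.1 hc).pow_right j).eq
      have hR' : ∀ r : ↥(S : Subgroup G), r ∈ R → (r : G) ∈ C := fun r hr =>
        mem_centralizer_singleton_iff.2 (congrArg Subtype.val (mem_centralizer_singleton_iff.1 hr))
      let f : ↥(O ⊓ C) × ↥R → ↥C := fun p => ⟨(p.1 : G) * ((p.2 : ↥(S : Subgroup G)) : G),
        mul_mem p.1.2.2 (hR' _ p.2.2)⟩
      have hf : Function.Bijective f := by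
        refine ⟨fun p q h => ?_, fun c => ?_⟩
        · have h' : (p.1 : G) * ((p.2 : ↥(S : Subgroup G)) : G) = (q.1 : G) * ((q.2 : ↥(S : Subgroup G)) : G) :=
            congrArg Subtype.val h
          have h'' : (q.1 : G)⁻¹ * (p.1 : G) = ((q.2 : ↥(S : Subgroup G)) : G) * ((p.2 : ↥(S : Subgroup G)) : G)⁻¹ := by
            calc (q.1 : G)⁻¹ * (p.1 : G) = (q.1 : G)⁻¹ * ((p.1 : G) * ((p.2 : ↥(S : Subgroup G)) : G)) *
                ((p.2 : ↥(S : Subgroup G)) : G)⁻¹ := by group
              _ = _ := by rw [h']; group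
          have h1 := eq_one_of_two_odd S.2 (odd_core hI) (y := (q.1 : G)⁻¹ * (p.1 : G))
            (h'' ▸ mul_mem (q.2 : ↥(S : Subgroup G)).2 (inv_mem (p.2 : ↥(S : Subgroup G)).2))
            (mul_mem (inv_mem q.1.2.1) p.1.2.1)
          have e1 := (inv_mul_eq_one.1 h1).symm
          rw [h''] at h1
          exact Prod.ext (Subtype.ext e1) (Subtype.ext (Subtype.ext (mul_inv_eq_one.1 h1).symm))
        · obtain ⟨o, ho, s, hs, he⟩ := hdec t hj2 hj1 c (hCt c c.2)
          have hsa : s * (a : G) = a * s := by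
            have hca : (c : G) * a = a * c := mem_centralizer_singleton_iff.1 c.2
            rw [he] at hca
            have h1 : s * (a : G) * s⁻¹ * (a : G)⁻¹ ∈ O := by
              rw [show s * (a : G) * s⁻¹ * (a : G)⁻¹ = o⁻¹ * (o * s * a) * s⁻¹ * (a : G)⁻¹ by group, hca,
                show o⁻¹ * ((a : G) * (o * s)) * s⁻¹ * (a : G)⁻¹ = o⁻¹ * (a * o * (a : G)⁻¹) by group]
              exact mul_mem (inv_mem ho) (core_conj hI (congrArg Subtype.val (hcen t hj2 a)) ho)
            have h2 := eq_one_of_two_odd S.2 (odd_core hI) (y := s * (a : G) * s⁻¹ * (a : G)⁻¹)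
              (mul_mem (mul_mem (mul_mem hs a.2) (inv_mem hs)) (inv_mem a.2)) h1
            exact mul_inv_eq_iff_eq_mul.1 (mul_inv_eq_one.1 h2)
          have hsR : (⟨s, hs⟩ : ↥(S : Subgroup G)) ∈ R := mem_centralizer_singleton_iff.2 (Subtype.ext hsa)
          refine ⟨(⟨o, ho, ?_⟩, ⟨⟨s, hs⟩, hsR⟩), Subtype.ext he.symm⟩
          rw [show o = (c : G) * s⁻¹ by rw [he]; group]
          exact (centralizer ({(a : G)} : Set G)).mul_mem c.2 (Subgroup.inv_mem _ (hR' _ hsR))
      have hcard' := Nat.card_congr (Equiv.ofBijective f hf)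
      rw [Nat.card_prod] at hcard'
      obtain ⟨r, hr⟩ := IsPGroup.iff_card.1 (S.2.to_subgroup R)
      have hodd' : Odd (Nat.card ↥(O ⊓ C)) := (odd_core hI).of_dvd_nat (Subgroup.card_dvd_of_le inf_le_left)
      rw [← hcard', hr, Nat.factorization_mul hodd'.pos.ne' (pow_ne_zero _ two_ne_zero), Finsupp.add_apply,
        Nat.factorization_eq_zero_of_not_dvd hodd'.not_two_dvd_nat, Nat.prime_two.factorization_pow,
        Finsupp.single_eq_same, zero_add]
  obtain ⟨M, hM⟩ := GlaubermanMod.exists_isPModular 2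
  haveI : M.IsPrime := hM.2.1.isPrime
  obtain ⟨χ, hχ, hχ1⟩ := hP.exists_linear hM
  rw [irr_one_eq_charDegree, Nat.cast_eq_one] at hχ1
  exact hχ (GW.eq_principal_of_deg_one (fun h => hG ⟨⟨h⟩⟩) hχ1)

/-- The simple groups of 2-rank at most two. -/
theorem rank_two [IsSimpleGroup G] (hG : ¬ IsMulCommutative G) (hI : CenTwoNilp G)
    (h2 : Cfsg.PRankLE 2 2 G) : GW.IsTarget G := by
  haveI : Fact (Nat.Prime 2) := ⟨Nat.prime_two⟩
  letI : Fintype (GaloisField 2 4) := Fintype.ofFinite _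
  have hF : Fintype.card (GaloisField 2 4) = 16 := by
    rw [← Nat.card_eq_fintype_card, GaloisField.card 2 4 (by norm_num)]
    norm_num
  obtain ⟨S⟩ := (inferInstance : Nonempty (Sylow 2 G))
  obtain ⟨P⟩ := (inferInstance : Nonempty (Sylow 2 (Cfsg.PSU 3 (GaloisField 2 4) 4)))
  rcases S0516.result hG h2 S hF P with ⟨n, hn, e⟩ | h | h | ⟨⟨e⟩⟩
  · exact GW.simpleDihedral G S n hn e
  · exact (not_qd_wreathed hG hI S (Or.inl h)).elim
  · exact (not_qd_wreathed hG hI S (Or.inr h)).elim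
  · obtain ⟨hP1, hP2, hP3⟩ := S1141.result (F := GaloisField 2 4) (n := 2) le_rfl (by rw [hF]; norm_num) P
    refine (not_u34_sylow hG hI S (SU3Sylow.suzuki_of_equiv e.symm hP3) ?_ ?_).elim
    · rw [Nat.card_congr e.toEquiv]; exact hP1.trans (by norm_num)
    · rw [Nat.card_congr (Subgroup.centerCongr e).toEquiv]; exact hP2.trans (by norm_num)

end Cfsg.Agent.CenNilp
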