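import Cfsg.Agent.Lib.CenNilp.RankTwo
import Cfsg.Agent.Lib.PSL2Binary.FourGroups
import Cfsg.Agent.S1225

/-!
In the rank two case a strongly embedded subgroup has trivial odd core.
-/

set_option autoImplicit false
set_option linter.style.haveILetI false
set_option linter.unusedSectionVars false

namespace Cfsg.Agent.CenNilp

open Subgroup
open scoped commutatorElement

universe u

theorem a7_tuple : ∀ x0 x2 x4 : Fin 7,
    (![1, 0, 3, 2, 4, 5, 6] : Fin 7 → Fin 7) x4 = x4 → ∀ x5 : Fin 7,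
    (![1, 0, 3, 2, 4, 5, 6] : Fin 7 → Fin 7) x5 = x5 → ∀ x6 : Fin 7,
    (![1, 0, 3, 2, 4, 5, 6] : Fin 7 → Fin 7) x6 = x6 →
    let f : Fin 7 → Fin 7 := ![x0, (![1, 0, 3, 2, 4, 5, 6] : Fin 7 → Fin 7) x0, x2,
      (![1, 0, 3, 2, 4, 5, 6] : Fin 7 → Fin 7) x2, x4, x5, x6]
    (∀ i j, f i = f j → i = j) →
      (∀ i, f^[12] i = i) ∧ ((∀ i, f^[3] i = i) → (∀ i, f i = i) ∨
        (∀ i, f i = (![0, 1, 2, 3, 5, 6, 4] : Fin 7 → Fin 7) i) ∨
        (∀ i, f i = (![0, 1, 2, 3, 6, 4, 5] : Fin 7 → Fin 7) i)) := by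
  decide +kernel

theorem a7_cent (a : Equiv.Perm (Fin 7))
    (h : a * (Equiv.swap 0 1 * Equiv.swap 2 3) = Equiv.swap 0 1 * Equiv.swap 2 3 * a) :
    a ^ 12 = 1 ∧ (a ^ 3 = 1 → a = 1 ∨ a = Equiv.swap 4 5 * Equiv.swap 5 6 ∨
      a = Equiv.swap 5 6 * Equiv.swap 4 5) := by
  set v : Equiv.Perm (Fin 7) := Equiv.swap 0 1 * Equiv.swap 2 3 with hv
  have hvf : (![1, 0, 3, 2, 4, 5, 6] : Fin 7 → Fin 7) = (v : Fin 7 → Fin 7) := by
    rw [hv]; decide
  have hcf : (![0, 1, 2, 3, 5, 6, 4] : Fin 7 → Fin 7) =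
      ((Equiv.swap 4 5 * Equiv.swap 5 6 : Equiv.Perm (Fin 7)) : Fin 7 → Fin 7) := by decide
  have hcf' : (![0, 1, 2, 3, 6, 4, 5] : Fin 7 → Fin 7) =
      ((Equiv.swap 5 6 * Equiv.swap 4 5 : Equiv.Perm (Fin 7)) : Fin 7 → Fin 7) := by decide
  have hc : ∀ i, a (v i) = v (a i) := fun i => by rw [← Equiv.Perm.mul_apply, h, Equiv.Perm.mul_apply]
  have h4 := hc 4
  have h5 := hc 5
  have h6 := hc 6
  rw [show v 4 = 4 by rw [hv]; decide] at h4
  rw [show v 5 = 5 by rw [hv]; decide] at h5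
  rw [show v 6 = 6 by rw [hv]; decide] at h6
  have h1 : v (a 0) = a 1 := by rw [← hc, show v 0 = 1 by rw [hv]; decide]
  have h3 : v (a 2) = a 3 := by rw [← hc, show v 2 = 3 by rw [hv]; decide]
  have hf : ![a 0, v (a 0), a 2, v (a 2), a 4, a 5, a 6] = (a : Fin 7 → Fin 7) := by
    funext i
    fin_cases i <;> simp [h1, h3]
  have key := a7_tuple (a 0) (a 2) (a 4)
  rw [hvf] at key
  have key := key h4.symm (a 5) h5.symm (a 6) h6.symm
  rw [hcf, hcf'] at key
  simp only [hf] at key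
  obtain ⟨k1, k2⟩ := key fun i j e => a.injective e
  refine ⟨Equiv.ext fun i => by rw [Equiv.Perm.coe_pow]; exact k1 i, fun e => ?_⟩
  have hk : ∀ i, (a : Fin 7 → Fin 7)^[3] i = i := fun i => by rw [← Equiv.Perm.coe_pow, e]; rfl
  rcases k2 hk with r | r | r
  · exact Or.inl (Equiv.ext r)
  · exact Or.inr (Or.inl (Equiv.ext r))
  · exact Or.inr (Or.inr (Equiv.ext r))

theorem a7_cent' (a : Equiv.Perm (Fin 7))
    (h : a * (Equiv.swap 0 1 * Equiv.swap 4 5) = Equiv.swap 0 1 * Equiv.swap 4 5 * a) :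
    a ^ 12 = 1 ∧ (a ^ 3 = 1 → a = 1 ∨ a = Equiv.swap 2 3 * Equiv.swap 3 6 ∨
      a = Equiv.swap 3 6 * Equiv.swap 2 3) := by
  set π : Equiv.Perm (Fin 7) := Equiv.swap 2 4 * Equiv.swap 3 5 with hπ
  have hππ : π * π = 1 := by rw [hπ]; decide
  have hconj : ∀ x y : Equiv.Perm (Fin 7), π * x * π * (π * y * π) = π * (x * y) * π := fun x y => by
    rw [show π * x * π * (π * y * π) = π * x * (π * π) * y * π by group, hππ]
    group
  have hpow : ∀ n : ℕ, (π * a * π) ^ n = π * a ^ n * π := by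
    intro n
    induction n with
    | zero => rw [pow_zero, pow_zero, mul_one, hππ]
    | succ n ih => rw [pow_succ, ih, hconj, pow_succ]
  have hback : ∀ x : Equiv.Perm (Fin 7), π * (π * x * π) * π = x := fun x => by
    rw [show π * (π * x * π) * π = π * π * x * (π * π) by group, hππ, one_mul, mul_one]
  obtain ⟨k1, k2⟩ := a7_cent (π * a * π) (by
    rw [show (Equiv.swap 0 1 * Equiv.swap 2 3 : Equiv.Perm (Fin 7)) =
      π * (Equiv.swap 0 1 * Equiv.swap 4 5) * π by rw [hπ]; decide, hconj, hconj, h])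
  refine ⟨?_, fun e => ?_⟩
  · rw [hpow] at k1
    rw [← hback (a ^ 12), k1, mul_one, hππ]
  rcases k2 (by rw [hpow, e, mul_one, hππ]) with r | r | r
  · exact Or.inl (by rw [← hback a, r, mul_one, hππ])
  · exact Or.inr (Or.inl (by rw [← hback a, r, hπ]; decide))
  · exact Or.inr (Or.inr (by rw [← hback a, r, hπ]; decide))

theorem a7_noncomm : ∀ (i j : Bool),
    (if i then Equiv.swap (4 : Fin 7) 5 * Equiv.swap 5 6 else Equiv.swap 5 6 * Equiv.swap 4 5) *
      (if j then Equiv.swap (2 : Fin 7) 3 * Equiv.swap 3 6 else Equiv.swap 3 6 * Equiv.swap 2 3) ≠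
    (if j then Equiv.swap (2 : Fin 7) 3 * Equiv.swap 3 6 else Equiv.swap 3 6 * Equiv.swap 2 3) *
      (if i then Equiv.swap (4 : Fin 7) 5 * Equiv.swap 5 6 else Equiv.swap 5 6 * Equiv.swap 4 5) := by
  decide

theorem pow_three_of_odd {X : Type*} [Group X] {a : X} (ha : Odd (orderOf a)) (h : a ^ 12 = 1) : a ^ 3 = 1 := by
  rw [← orderOf_dvd_iff_pow_eq_one] at h ⊢
  exact (Nat.Coprime.pow_right 2 (Nat.coprime_two_right.2 ha) : Nat.Coprime (orderOf a) (2 ^ 2)).dvd_of_dvd_mul_left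
    (show orderOf a ∣ 2 ^ 2 * 3 from h)

section

variable {F : Type} [Field F] [Finite F]

local notation "P" => Matrix.ProjectiveSpecialLinearGroup (Fin 2) F

/-- Centralisers of nontrivial elements of odd order are abelian. -/
theorem psl_comm {x a b : P} (hx : x ≠ 1) (hodd : Odd (orderOf x)) (ha : a * x = x * a)
    (hb : b * x = x * b) : a * b = b * a := by
  obtain ⟨X, rfl⟩ := PSL2Inv.pr_surjective x
  have h0 : Matrix.trace ((X : Matrix.SpecialLinearGroup (Fin 2) F) : Matrix (Fin 2) (Fin 2) F) ≠ 0 := by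
    intro h
    have h2 := orderOf_dvd_of_pow_eq_one (show PSL2Inv.pr X ^ 2 = 1 by rw [pow_two]; exact PSL2Inv.pr_mul_self h)
    rcases (Nat.dvd_prime Nat.prime_two).1 h2 with e | e
    · exact hx (orderOf_eq_one_iff.1 e)
    · rw [e] at hodd; exact absurd hodd (by decide)
  exact PSL2Binary.comm_tor (fun h => hx (Dickson.pr_eq_one.2 h))
    (PSL2Binary.mem_tor_of_commute h0 ha) (PSL2Binary.mem_tor_of_commute h0 hb)

end

variable {L : Type u} [Group L] [Finite L]

/-- A strongly embedded subgroup of a group of this list has trivial odd core, given the fusion. -/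
theorem oddCore_bot_of_target {K : Subgroup L} (hK : Cfsg.IsStronglyEmbedded K) (hT : GW.IsTarget L)
    (hfus : ∀ s t : L, orderOf s = 2 → s ∈ K → orderOf t = 2 → t ∈ K → ∃ d ∈ K, d * s * d⁻¹ = t)
    (hall : ∀ a b : L, orderOf a = 2 → orderOf b = 2 → IsConj a b)
    {E : Subgroup L} (hEK : E ≤ K) (hE : Cfsg.IsElementaryAbelian 2 E) (hE4 : 4 ≤ Nat.card E) :
    Cfsg.oddCore ↥K = ⊥ := by
  haveI : Fact (Nat.Prime 2) := ⟨Nat.prime_two⟩
  by_contra hne
  set O := Cfsg.oddCore ↥K with hO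
  haveI hOn : O.Normal := FittingCores.pPrimeCore_normal 2
  have hOodd : Odd (Nat.card O) := Nat.coprime_two_right.1 (PBasic.pPrimeCore_coprime 2 ↥K)
  haveI : Group.IsSolvable ↥O := S0205.result hOodd
  -- an abelian normal subgroup
  have hder := (Group.isSolvable_def ↥O).1 inferInstance
  classical
  have hspec : derivedSeries ↥O (Nat.find hder) = ⊥ := Nat.find_spec hder
  obtain ⟨k, hk⟩ : ∃ k, Nat.find hder = k + 1 := by
    refine Nat.exists_eq_succ_of_ne_zero fun h => hne ?_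
    rw [h, derivedSeries_zero] at hspec
    refine (eq_bot_iff_forall O).2 fun x hx => ?_
    have h1 : (⟨x, hx⟩ : ↥O) ∈ (⊤ : Subgroup ↥O) := mem_top _
    rw [hspec, mem_bot] at h1
    exact congrArg Subtype.val h1
  have hk0 : derivedSeries ↥O k ≠ ⊥ := Nat.find_min hder (by omega)
  rw [hk, derivedSeries_succ] at hspec
  haveI : (derivedSeries ↥O k).Characteristic := inferInstance
  set Qk := (derivedSeries ↥O k).map O.subtype with hQk
  haveI hQkn : Qk.Normal := ConjAct.normal_of_characteristic_of_normal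
  set Q := Qk.map K.subtype with hQ
  have hQK : ∀ q ∈ Q, ∀ g ∈ K, g * q * g⁻¹ ∈ Q := by
    rintro _ ⟨q, hq, rfl⟩ g hg
    exact ⟨_, hQkn.conj_mem q hq ⟨g, hg⟩, rfl⟩
  have hQc : ∀ a ∈ Q, ∀ b ∈ Q, a * b = b * a := by
    rintro _ ⟨_, ⟨a, ha, rfl⟩, rfl⟩ _ ⟨_, ⟨b, hb, rfl⟩, rfl⟩
    have : ⁅a, b⁆ = 1 := Subgroup.mem_bot.1 (hspec ▸ Subgroup.commutator_mem_commutator ha hb)
    rw [commutatorElement_eq_one_iff_mul_comm] at this
    rw [← map_mul, ← map_mul, ← map_mul, ← map_mul, this]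
  have hQodd : Odd (Nat.card Q) := by
    rw [hQ, card_map_of_injective K.subtype_injective, hQk, card_map_of_injective O.subtype_injective]
    exact hOodd.of_dvd_nat (card_subgroup_dvd_card _)
  have hQne : Q ≠ ⊥ := by
    rwa [hQ, Ne, map_eq_bot_iff_of_injective _ K.subtype_injective, hQk,
      map_eq_bot_iff_of_injective _ O.subtype_injective]
  -- a fixed point for every involution
  have hA : ∀ t ∈ K, orderOf t = 2 → ∃ a ∈ Q, a ≠ 1 ∧ Odd (orderOf a) ∧ a * t = t * a := by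
    intro t htK ht
    obtain ⟨v, hv, a, haQ, ha1, hva⟩ : ∃ v ∈ E, ∃ a ∈ Q, a ≠ 1 ∧ (v ≠ 1 ∧ a * v = v * a) := by
      by_contra hno
      push Not at hno
      refine hQne (le_bot_iff.1 (Signalizer.le_of_centralizer_le hE (by omega)
        (Signalizer.le_normalizer_iff_conj_mem.2 fun e he q hq => hQK q hq e (hEK he)) hQodd.not_two_dvd_nat ?_))
      intro b hb hb1 q hq
      rw [mem_bot]
      by_contra hq1
      exact hno b hb q hq.1 hq1 hb1 (mem_centralizer_singleton_iff.1 hq.2)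
    obtain ⟨d, hd, rfl⟩ := hfus v t (Signalizer.ea_orderOf hE hv hva.1) (hEK hv) ht htK
    refine ⟨d * a * d⁻¹, hQK a haQ d hd, fun h => ha1 (conj_eq_one_iff.1 h), ?_, ?_⟩
    · exact hQodd.of_dvd_nat (Subgroup.orderOf_dvd_natCard Q (hQK a haQ d hd))
    · calc d * a * d⁻¹ * (d * v * d⁻¹) = d * (a * v) * d⁻¹ := by group
        _ = d * (v * a) * d⁻¹ := by rw [hva.2]
        _ = _ := by group
  obtain ⟨v, hv, hv1⟩ : ∃ v ∈ E, v ≠ 1 := by
    by_contra! hall'
    rw [(eq_bot_iff_forall E).2 hall', card_bot] at hE4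
    omega
  rcases hT with ⟨F, _, _, hFodd, -, ⟨e⟩⟩ | ⟨⟨e⟩⟩
  · haveI : Finite F := Finite.of_fintype F
    have h2 : (2 : F) ≠ 0 := fun h => by
      haveI : CharP F 2 := CharTwo.of_one_ne_zero_of_two_eq_zero one_ne_zero h
      obtain ⟨n, -, hn⟩ := FiniteField.card F 2
      rw [hn] at hFodd
      exact Nat.not_even_iff_odd.2 hFodd (even_iff_two_dvd.2 (dvd_pow_self 2 n.ne_zero))
    obtain ⟨w, hw, hwne⟩ : ∃ w ∈ E, w ∉ ({1, v} : Set L) := by
      by_contra! hno
      have hle : (E : Set L).ncard ≤ ({1, v} : Set L).ncard :=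
        Set.ncard_le_ncard (fun x hx => hno x hx) (Set.toFinite _)
      rw [← Nat.card_coe_set_eq, Set.ncard_pair (Ne.symm hv1)] at hle
      change Nat.card E ≤ 2 at hle
      omega
    simp only [Set.mem_insert_iff, Set.mem_singleton_iff, not_or] at hwne
    obtain ⟨a, haQ, ha1, haodd, hav⟩ := hA v (hEK hv) (Signalizer.ea_orderOf hE hv hv1)
    obtain ⟨b, hbQ, hb1, hbodd, hbw⟩ := hA w (hEK hw) (Signalizer.ea_orderOf hE hw hwne.1)
    have hcomm : ∀ {x c d : L}, x ≠ 1 → Odd (orderOf x) → c * x = x * c → d * x = x * d → c * d = d * c := by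
      intro x c d hx hodd hc hd
      apply e.injective
      rw [map_mul, map_mul]
      exact psl_comm (x := e x) (fun h => hx (e.map_eq_one_iff.1 h)) (by rwa [e.orderOf_eq])
        (by rw [← map_mul, hc, map_mul]) (by rw [← map_mul, hd, map_mul])
    have haw : a * w = w * a := hcomm hb1 hbodd (hQc a haQ b hbQ) hbw.symm
    have hsq : ∀ x ∈ E, e x * e x = 1 := fun x hx => by
      rw [← map_mul, ← pow_two, hE.2 x hx, map_one]
    rcases PSL2Binary.four_cent h2 (a := e v) (b := e w) (c := e a) (hsq v hv) (fun h => hv1 (e.map_eq_one_iff.1 h))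
        (hsq w hw) (fun h => hwne.1 (e.map_eq_one_iff.1 h)) (fun h => hwne.2 (e.injective h).symm)
        (by rw [← map_mul, ← map_mul, Signalizer.ea_comm hE hv hw])
        (by rw [← map_mul, ← map_mul, hav]) (by rw [← map_mul, ← map_mul, haw]) with h | h | h | h
    · exact ha1 (e.map_eq_one_iff.1 h)
    all_goals
      have hsq' : e a * e a = 1 := by
        first
          | (rw [h]; exact hsq v hv)
          | (rw [h]; exact hsq w hw)
          | (rw [h, ← map_mul]; exact hsq (v * w) (mul_mem hv hw))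
      refine ha1 ?_
      have h2' := orderOf_dvd_of_pow_eq_one (show (e a) ^ 2 = 1 by rw [pow_two, hsq'])
      rw [e.orderOf_eq] at h2'
      rcases (Nat.dvd_prime Nat.prime_two).1 h2' with r | r
      · exact orderOf_eq_one_iff.1 r
      · rw [r] at haodd; exact absurd haodd (by decide)
  · set v₀ : alternatingGroup (Fin 7) := ⟨Equiv.swap 0 1 * Equiv.swap 2 3, by simp [Equiv.Perm.mem_alternatingGroup]⟩
    set w₀ : alternatingGroup (Fin 7) := ⟨Equiv.swap 0 1 * Equiv.swap 4 5, by simp [Equiv.Perm.mem_alternatingGroup]⟩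
    have ho : ∀ x : alternatingGroup (Fin 7), x * x = 1 → x ≠ 1 → orderOf (e.symm x) = 2 := fun x h h1 => by
      rw [e.symm.orderOf_eq]
      exact orderOf_eq_prime (by rw [pow_two, h]) h1
    have hv₀ := ho v₀ (by decide) (by decide)
    have hw₀ := ho w₀ (by decide) (by decide)
    obtain ⟨c, hc⟩ := isConj_iff.1 (hall v (e.symm v₀) (Signalizer.ea_orderOf hE hv hv1) hv₀)
    have hvv : c⁻¹ * e.symm v₀ * c = v := by rw [← hc]; group
    set w := c⁻¹ * e.symm w₀ * c with hw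
    have hw2 : orderOf w = 2 := by
      rw [hw, show c⁻¹ * e.symm w₀ * c = MulAut.conj c⁻¹ (e.symm w₀) by simp, MulEquiv.orderOf_eq, hw₀]
    have hwK : w ∈ K := by
      refine Invol.se_centralizer_le hK (Signalizer.ea_orderOf hE hv hv1) (hEK hv)
        (mem_centralizer_singleton_iff.2 ?_)
      rw [hw, ← hvv, show c⁻¹ * e.symm w₀ * c * (c⁻¹ * e.symm v₀ * c) = c⁻¹ * (e.symm w₀ * e.symm v₀) * c by group,
        show c⁻¹ * e.symm v₀ * c * (c⁻¹ * e.symm w₀ * c) = c⁻¹ * (e.symm v₀ * e.symm w₀) * c by group,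
        ← map_mul, ← map_mul, show w₀ * v₀ = v₀ * w₀ by decide]
    obtain ⟨a, haQ, ha1, haodd, hav⟩ := hA v (hEK hv) (Signalizer.ea_orderOf hE hv hv1)
    obtain ⟨b, hbQ, hb1, hbodd, hbw⟩ := hA w hwK hw2
    let φ : L ≃* alternatingGroup (Fin 7) := (MulAut.conj c).trans e
    have hφv : φ v = v₀ := by
      show e (c * v * c⁻¹) = v₀
      rw [hc, e.apply_symm_apply]
    have hφw : φ w = w₀ := by
      show e (c * (c⁻¹ * e.symm w₀ * c) * c⁻¹) = w₀
      rw [show c * (c⁻¹ * e.symm w₀ * c) * c⁻¹ = e.symm w₀ by group, e.apply_symm_apply]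
    have hval : ∀ x y : L, x * y = y * x → (φ x : Equiv.Perm (Fin 7)) * φ y = φ y * φ x := fun x y h => by
      rw [← Subgroup.coe_mul, ← Subgroup.coe_mul, ← map_mul, ← map_mul, h]
    have hodd' : ∀ x : L, Odd (orderOf x) → Odd (orderOf (φ x : Equiv.Perm (Fin 7))) := fun x h => by
      rwa [Subgroup.orderOf_coe, φ.orderOf_eq]
    have hne' : ∀ x : L, x ≠ 1 → (φ x : Equiv.Perm (Fin 7)) ≠ 1 := fun x h e' =>
      h (φ.map_eq_one_iff.1 (Subtype.ext e'))
    have h1 := hval a v hav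
    have h2 := hval b w hbw
    rw [hφv] at h1
    rw [hφw] at h2
    obtain ⟨ha12, ha3⟩ := a7_cent _ h1
    obtain ⟨hb12, hb3⟩ := a7_cent' _ h2
    have hab := hval a b (hQc a haQ b hbQ)
    rcases (ha3 (pow_three_of_odd (hodd' a haodd) ha12)).resolve_left (hne' a ha1) with ea | ea <;>
      rcases (hb3 (pow_three_of_odd (hodd' b hbodd) hb12)).resolve_left (hne' b hb1) with eb | eb <;>
      rw [ea, eb] at hab
    · exact a7_noncomm true true hab
    · exact a7_noncomm true false hab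
    · exact a7_noncomm false true hab
    · exact a7_noncomm false false hab

/-- The rank two case of a strongly embedded subgroup. -/
theorem rankTwoCase (L : Type u) [Group L] [Finite L] (hs : IsSimpleGroup L) (hna : ¬ IsMulCommutative L)
    (hI : ∀ t : L, orderOf t = 2 → Cfsg.HasNormalPComplement 2 ↥(centralizer ({t} : Set L)))
    (K : Subgroup L) (hK : Cfsg.IsStronglyEmbedded K)
    (h4 : ∀ E : Subgroup L, E ≤ K → Cfsg.IsElementaryAbelian 2 E → Nat.card E ≤ 4) :
    Cfsg.oddCore ↥K = ⊥ := by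
  haveI := hs
  haveI : Fact (Nat.Prime 2) := ⟨Nat.prime_two⟩
  obtain ⟨t₀, ht₀K, ht₀⟩ := Invol.exists_invol hK.2.1
  -- an involution outside
  obtain ⟨u, hu, huK⟩ : ∃ u : L, orderOf u = 2 ∧ u ∉ K := by
    by_contra! hno
    have hle : normalClosure ({t₀} : Set L) ≤ K := by
      rw [normalClosure, closure_le]
      intro x hx
      obtain ⟨a, ha, hax⟩ := Group.mem_conjugatesOfSet_iff.1 hx
      obtain ⟨g, rfl⟩ := isConj_iff.1 hax
      rw [Set.mem_singleton_iff] at ha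
      subst ha
      exact hno _ (by rw [Invol.order_conj, ht₀])
    rcases (normalClosure_normal (s := ({t₀} : Set L))).eq_bot_or_eq_top with e | e
    · have h1 : t₀ ∈ normalClosure ({t₀} : Set L) := subset_normalClosure rfl
      rw [e, mem_bot] at h1
      rw [h1, orderOf_one] at ht₀
      omega
    · exact hK.1 (top_le_iff.1 (e ▸ hle))
  have hfus := fun s t hs' hsK ht htK => S1225.result K hK u hu huK s t hs' hsK ht htK
  have hall := (hfus t₀ t₀ ht₀ ht₀K ht₀ ht₀K).2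
  have hconj : ∀ A : Subgroup L, Cfsg.IsElementaryAbelian 2 A → A ≠ ⊥ →
      ∃ g : L, A.map (MulAut.conj g).toMonoidHom ≤ K := by
    intro A hA hne
    obtain ⟨a, ha, ha1⟩ := (Subgroup.bot_or_exists_ne_one A).resolve_left hne
    obtain ⟨g, hg⟩ := isConj_iff.1 (hall a t₀ (Signalizer.ea_orderOf hA ha ha1) ht₀)
    refine ⟨g, ?_⟩
    rintro _ ⟨x, hx, rfl⟩
    refine Invol.se_centralizer_le hK ht₀ ht₀K (mem_centralizer_singleton_iff.2 ?_)
    show g * x * g⁻¹ * t₀ = t₀ * (g * x * g⁻¹)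
    rw [← hg, show g * x * g⁻¹ * (g * a * g⁻¹) = g * (x * a) * g⁻¹ by group,
      Signalizer.ea_comm hA hx ha]
    group
  have h2 : Cfsg.PRankLE 2 2 L := by
    intro A hAc hA2
    by_cases hne : A = ⊥
    · rw [hne, card_bot]; norm_num
    obtain ⟨g, hg⟩ := hconj A ⟨hAc, hA2⟩ hne
    have := h4 _ hg (SolvCores.ea_map _ ⟨hAc, hA2⟩)
    rw [card_map_of_injective (MulAut.conj g).injective] at this
    exact this
  have h1 := AlperinRankTwo.not_rank_one hna
  simp only [Cfsg.PRankLE, not_forall, not_le, pow_one] at h1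
  obtain ⟨A, hAc, hA2, hAcard⟩ := h1
  obtain ⟨g, hg⟩ := hconj A ⟨hAc, hA2⟩ (fun e => by rw [e, card_bot] at hAcard; omega)
  refine oddCore_bot_of_target hK (rank_two hna hI h2) (fun s t a b c d => ?_) hall hg (SolvCores.ea_map _ ⟨hAc, hA2⟩) ?_
  · obtain ⟨x, hx, hxe⟩ := (hfus s t a b c d).1
    exact ⟨x, hx.1, hxe⟩
  · rw [card_map_of_injective (MulAut.conj g).injective]
    exact SolvCores.four_le ⟨hAc, hA2⟩ hAcard

end Cfsg.Agent.CenNilp
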