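import Cfsg.Agent.Lib.CenNilp.Connect
import Cfsg.Agent.Lib.CenNilp.SEBase
import Cfsg.Agent.Lib.NormCyclic.CIT
import Cfsg.Agent.Lib.SzRecog.Named

/-!
Simple groups with 2-nilpotent centralisers of involutions, given the theorem on strongly embedded subgroups.
-/

set_option autoImplicit false
set_option linter.style.haveILetI false
set_option linter.unusedSectionVars false

namespace Cfsg.Agent.CenNilp

open Subgroup Cfsg.Agent.Signalizer

universe u

/-- Bender's theorem in the situation of this topic. -/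
def SEStatement (G : Type u) [Group G] : Prop :=
  ∀ H : Subgroup G, Cfsg.IsStronglyEmbedded H →
    (∃ E : Subgroup G, E ≤ H ∧ Cfsg.IsElementaryAbelian 2 E ∧ 4 ≤ Nat.card E) →
    (∀ t ∈ H, orderOf t = 2 → ∀ x : G, Odd (orderOf x) → x * t = t * x →
      x ∈ (Cfsg.oddCore ↥H).map H.subtype) →
    Cfsg.oddCore ↥H = ⊥

/-- The list. -/
theorem list_of_brick {G : Type u} [Group G] [Finite G] [IsSimpleGroup G] (hG : ¬ IsMulCommutative G)
    (hI : CenTwoNilp G) (hB : SEStatement G) :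
    (∃ (F : Type) (_ : Field F) (_ : Fintype F), 3 < Fintype.card F ∧
        Nonempty (G ≃* Matrix.ProjectiveSpecialLinearGroup (Fin 2) F)) ∨
      Cfsg.Lie.IsoSuzuki G ∨ Nonempty (G ≃* ↥(alternatingGroup (Fin 7))) ∨
      (∃ (F : Type) (_ : Field F) (_ : Fintype F), Fintype.card F = 4 ∧
        Nonempty (G ≃* Matrix.ProjectiveSpecialLinearGroup (Fin 3) F)) := by
  haveI : Fact (Nat.Prime 2) := ⟨Nat.prime_two⟩
  have hna : ∃ a b : G, a * b ≠ b * a := by
    by_contra! h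
    exact hG ⟨⟨h⟩⟩
  by_cases h2 : Cfsg.PRankLE 2 2 G
  · rcases rank_two hG hI h2 with ⟨F, i1, i2, -, h3, he⟩ | he
    · exact Or.inl ⟨F, i1, i2, h3, he⟩
    · exact Or.inr (Or.inr (Or.inl he))
  rcases cit_or_se hG hI h2 with hcit | ⟨H, hH, hne, hcore⟩
  · rcases SzRecog.simple_list hna (Or.inr hcit) with ⟨F, i1, i2, -, ⟨e⟩⟩ | h | h
    · refine Or.inl ⟨F, i1, i2, NormCyc.three_lt_card fun hs => ?_, ⟨e⟩⟩
      haveI : Group.IsSolvable G := Group.isSolvable_of_isSolvable_injective (f := e.toMonoidHom) e.injective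
      obtain ⟨a, b, hab⟩ := hna
      exact hab (IsSimpleGroup.comm_iff_isSolvable.2 inferInstance a b)
    · exact Or.inr (Or.inr (Or.inr h))
    · exact Or.inr (Or.inl h)
  refine absurd (hB H hH ?_ fun t htH ht x hx hxt => hcore t htH ht (mem_core_of_odd hI ht hxt hx)) hne
  obtain ⟨t₀, ht₀K, ht₀⟩ := Invol.exists_invol hH.2.1
  obtain ⟨g, hg⟩ : ∃ g : G, ¬ (g ∈ H) := by
    by_contra! h
    exact hH.1 (eq_top_iff.2 fun x _ => h x)
  obtain ⟨u, hu, huH⟩ : ∃ u : G, orderOf u = 2 ∧ u ∉ H := by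
    refine ⟨g * t₀ * g⁻¹, by rw [Invol.order_conj, ht₀], fun hmem => hg ?_⟩
    exact Invol.se_mem_of_conj hH ht₀ ht₀K hmem
  have h1 := AlperinRankTwo.not_rank_one hG
  simp only [Cfsg.PRankLE, not_forall, not_le, pow_one] at h1
  obtain ⟨A, hAc, hA2, hAcard⟩ := h1
  have hA : Cfsg.IsElementaryAbelian 2 A := ⟨hAc, hA2⟩
  obtain ⟨a, ha, ha1⟩ := (Subgroup.bot_or_exists_ne_one A).resolve_left fun e => by
    rw [e, card_bot] at hAcard; omega
  obtain ⟨c, hc⟩ := isConj_iff.1 ((S1225.result H hH u hu huH t₀ t₀ ht₀ ht₀K ht₀ ht₀K).2 a t₀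
    (ea_orderOf hA ha ha1) ht₀)
  refine ⟨A.map (MulAut.conj c).toMonoidHom, ?_, SolvCores.ea_map _ hA, ?_⟩
  · rintro _ ⟨x, hx, rfl⟩
    refine Invol.se_centralizer_le hH ht₀ ht₀K (mem_centralizer_singleton_iff.2 ?_)
    show c * x * c⁻¹ * t₀ = t₀ * (c * x * c⁻¹)
    rw [← hc, show c * x * c⁻¹ * (c * a * c⁻¹) = c * (x * a) * c⁻¹ by group, ea_comm hA hx ha]
    group
  · rw [card_map_of_injective (MulAut.conj c).injective]
    exact SolvCores.four_le hA hAcard

end Cfsg.Agent.CenNilp
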