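import Cfsg.Agent.Lib.Transfer.Basic
import Cfsg.Agent.Lib.SolvCores.Main
import Cfsg.Agent.S0205

/-!
Groups in which the centralisers of the involutions have normal 2-complements.
-/

set_option autoImplicit false
set_option linter.style.haveILetI false
set_option linter.unusedSectionVars false

namespace Cfsg.Agent.CenNilp

open Subgroup

universe u

variable {G : Type u} [Group G] [Finite G]

/-- The hypothesis on the centralisers. -/
abbrev CenTwoNilp (G : Type u) [Group G] : Prop :=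
  ∀ t : G, orderOf t = 2 → Cfsg.HasNormalPComplement 2 ↥(centralizer ({t} : Set G))

variable (hI : CenTwoNilp G)
include hI

theorem solvable_cent {t : G} (ht : orderOf t = 2) :
    Group.IsSolvable ↥(centralizer ({t} : Set G)) := by
  haveI : Fact (Nat.Prime 2) := ⟨Nat.prime_two⟩
  set C := centralizer ({t} : Set G)
  haveI hN : (Cfsg.pPrimeCore 2 ↥C).Normal := FittingCores.pPrimeCore_normal 2
  haveI : Group.IsSolvable ↥(Cfsg.pPrimeCore 2 ↥C) := S0205.result
    (Nat.coprime_two_right.1 (PBasic.pPrimeCore_coprime 2 ↥C))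
  haveI : Group.IsNilpotent (↥C ⧸ Cfsg.pPrimeCore 2 ↥C) :=
    (PBasic.quotient_pPrimeCore_isPGroup (hI t ht)).isNilpotent
  haveI := hN
  exact Group.isSolvable_of_ker_le_range (Cfsg.pPrimeCore 2 ↥C).subtype
    (QuotientGroup.mk' (Cfsg.pPrimeCore 2 ↥C)) (by rw [QuotientGroup.ker_mk', Subgroup.range_subtype])

/-- Elements of odd order centralising an involution lie in the core of its centraliser. -/
theorem mem_core_of_odd {t x : G} (ht : orderOf t = 2) (hx : x * t = t * x) (hodd : Odd (orderOf x)) :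
    x ∈ Cfsg.centralizerPPrimeCore 2 t := by
  haveI : Fact (Nat.Prime 2) := ⟨Nat.prime_two⟩
  have hxC : x ∈ centralizer ({t} : Set G) := mem_centralizer_singleton_iff.2 hx
  refine ⟨⟨x, hxC⟩, ?_, rfl⟩
  show (⟨x, hxC⟩ : ↥(centralizer ({t} : Set G))) ∈ Cfsg.pPrimeCore 2 ↥(centralizer ({t} : Set G))
  rw [PBasic.pPrimeCore_eq_pResidual (hI t ht)]
  exact PBasic.mem_pResidual (by rw [Subgroup.orderOf_mk]; exact Nat.coprime_two_right.2 hodd)

theorem odd_core {t : G} : Odd (Nat.card (Cfsg.centralizerPPrimeCore 2 t)) := by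
  rw [Cfsg.centralizerPPrimeCore, Subgroup.card_map_of_injective (Subgroup.subtype_injective _)]
  exact Nat.coprime_two_right.1 (PBasic.pPrimeCore_coprime 2 _)

theorem core_conj {t c o : G} (hc : c * t = t * c) (ho : o ∈ Cfsg.centralizerPPrimeCore 2 t) :
    c * o * c⁻¹ ∈ Cfsg.centralizerPPrimeCore 2 t := by
  haveI : Fact (Nat.Prime 2) := ⟨Nat.prime_two⟩
  obtain ⟨o, ho, rfl⟩ := ho
  exact ⟨_, (FittingCores.pPrimeCore_normal 2).conj_mem o ho ⟨c, mem_centralizer_singleton_iff.2 hc⟩, rfl⟩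

omit hI in
theorem eq_one_of_two_odd {Q K : Subgroup G} (hQ : IsPGroup 2 Q) (hK : Odd (Nat.card K)) {y : G}
    (hyQ : y ∈ Q) (hyK : y ∈ K) : y = 1 := by
  haveI : Fact (Nat.Prime 2) := ⟨Nat.prime_two⟩
  exact mem_bot.1 ((PBasic.inf_eq_bot_of_coprime (Nat.coprime_two_right.2 hK) hQ).le ⟨hyK, hyQ⟩)

/-- An element of odd order normalising a 2-group and centralising an involution centralises the part
of the 2-group that centralises the involution. -/
theorem odd_fix {Q : Subgroup G} (hQ : IsPGroup 2 Q) {t x : G} (ht : orderOf t = 2) (hodd : Odd (orderOf x))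
    (hxt : x * t = t * x) (hxQ : ∀ q ∈ Q, x * q * x⁻¹ ∈ Q) {q : G} (hq : q ∈ Q) (hqt : q * t = t * q) :
    x * q = q * x := by
  have hx := mem_core_of_odd hI ht hxt hodd
  have h1 : x * q * x⁻¹ * q⁻¹ ∈ Cfsg.centralizerPPrimeCore 2 t := by
    rw [show x * q * x⁻¹ * q⁻¹ = x * (q * x⁻¹ * q⁻¹) by group]
    exact mul_mem hx (core_conj hI hqt (inv_mem hx))
  have h2 := eq_one_of_two_odd hQ (odd_core hI) (mul_mem (hxQ q hq) (inv_mem hq)) h1
  exact mul_inv_eq_iff_eq_mul.1 (mul_inv_eq_one.1 h2)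


end Cfsg.Agent.CenNilp
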