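import Cfsg.Agent.Lib.CenNilp.Basic
import Cfsg.Agent.Lib.CNSimple.Defs
import Cfsg.Agent.Lib.Partition.Simple
import Cfsg.Agent.Lib.TwoGroups.NormalFour
import Cfsg.Agent.Lib.TwoGroups.CentFour
import Cfsg.Agent.Lib.AlperinRankTwo.Simple

/-!
2-rank at least three: either all centralisers of involutions are 2-groups or the odd cores generate a
nontrivial subgroup with strongly embedded normaliser.
-/

set_option autoImplicit false
set_option linter.style.haveILetI false
set_option linter.unusedSectionVars false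

namespace Cfsg.Agent.CenNilp

open Subgroup Cfsg.Agent.Signalizer Cfsg.Agent.Signalizer.SFT
open scoped Pointwise

universe u

variable {G : Type u} [Group G] [Finite G]

theorem cent_le_normalizer (w : G) :
    centralizer ({w} : Set G) ≤ normalizer ((zpowers w : Subgroup G) : Set G) := by
  intro x hx
  rw [mem_normalizer_iff_map_conj_eq, MonoidHom.map_zpowers]
  show zpowers (x * w * x⁻¹) = zpowers w
  rw [mem_centralizer_singleton_iff.1 hx, mul_inv_cancel_right]

/-- A central involution and a second involution spanning a normal four-subgroup of a Sylow subgroup. -/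
structure Frame (S : Sylow 2 G) (z u : G) : Prop where
  zS : z ∈ S
  uS : u ∈ S
  zo : orderOf z = 2
  uo : orderOf u = 2
  ne : z ≠ u
  zc : ∀ s ∈ S, s * z = z * s
  uc : ∀ s ∈ S, s * u * s⁻¹ = u ∨ s * u * s⁻¹ = z * u
  big : ∃ B : Subgroup G, B ≤ S ∧ Cfsg.IsElementaryAbelian 2 B ∧ 8 ≤ Nat.card B

theorem sq_eq_one_of_order {a : G} (h : orderOf a = 2) : a * a = 1 := by
  rw [← pow_two, ← h, pow_orderOf_eq_one]

theorem exists_frame (hr : ¬ Cfsg.PRankLE 2 2 G) (S : Sylow 2 G) : ∃ z u, Frame S z u := by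
  classical
  haveI : Fact (Nat.Prime 2) := ⟨Nat.prime_two⟩
  simp only [Cfsg.PRankLE, not_forall, not_le] at hr
  obtain ⟨A, hAc, hA2, hA⟩ := hr
  have hAe : Cfsg.IsElementaryAbelian 2 A := ⟨hAc, hA2⟩
  obtain ⟨g, -, hg⟩ := SolvCores.exists_conj_le (S := S) (H := ⊤) le_top (ea_isPGroup hAe) le_top
  set B := A.map (MulAut.conj g).toMonoidHom with hB
  have hBe : Cfsg.IsElementaryAbelian 2 B := SolvCores.ea_map _ hAe
  have hB8 : 8 ≤ Nat.card B := SolvCores.eight_le hBe (by
    rw [card_map_of_injective (MulAut.conj g).injective]; omega)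
  obtain ⟨k, hk⟩ := (ea_isPGroup hBe).exists_card_eq
  have hk3 : 3 ≤ k := (Nat.pow_le_pow_iff_right (by norm_num : 1 < 2)).1 (show 2 ^ 3 ≤ 2 ^ k by omega)
  obtain ⟨E, hE⟩ := Sylow.exists_subgroup_card_pow_prime (G := ↥(B.subgroupOf (S : Subgroup G))) 2 (n := 3) (by
    rw [Nat.card_congr (subgroupOfEquivOfLe hg).toEquiv, hk]; exact pow_dvd_pow 2 hk3)
  obtain ⟨V, hVn, hV4, hV2⟩ := NormalFour.exists_normal_four S.2
    (E := E.map (B.subgroupOf (S : Subgroup G)).subtype)
    (by rw [card_map_of_injective (Subgroup.subtype_injective _), hE]; norm_num)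
    (by
      rintro _ ⟨e, -, rfl⟩
      refine Subtype.ext ?_
      have := hBe.2 _ e.2
      rw [pow_two] at this
      exact this)
  haveI := hVn
  obtain ⟨z, hzV, hz, hzc⟩ := NormalFour.exists_central_mem S.2 (N := V) (fun e => by
    rw [e, card_bot] at hV4; omega)
  obtain ⟨w, hwV, hw1, hwz⟩ : ∃ w ∈ V, w ≠ 1 ∧ w ≠ z := by
    by_contra! hno
    have hle : (V : Set ↥(S : Subgroup G)).ncard ≤ ({1, z} : Set ↥(S : Subgroup G)).ncard :=
      Set.ncard_le_ncard (fun x hx => by
        by_cases h : x = 1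
        · exact Or.inl h
        · exact Or.inr (hno x hx h)) (Set.toFinite _)
    rw [← Nat.card_coe_set_eq, Set.ncard_pair (fun e => by rw [← e, orderOf_one] at hz; omega)] at hle
    change Nat.card V ≤ 2 at hle
    omega
  have hVlist : ∀ v ∈ V, v = 1 ∨ v = z ∨ v = w ∨ v = z * w := by
    intro v hv
    by_contra! hno
    have hz1 : z ≠ 1 := fun e => by rw [e, orderOf_one] at hz; omega
    have hzw1 : z * w ≠ 1 := fun e => hwz (by
      rw [mul_eq_one_iff_eq_inv.1 e, inv_eq_of_mul_eq_one_right (hV2 w hwV)])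
    have hc : ({1, z, w, z * w, v} : Finset ↥(S : Subgroup G)).card = 5 := by
      rw [Finset.card_insert_of_notMem (by simp [Ne.symm hz1, Ne.symm hw1, hzw1.symm, Ne.symm hno.1]),
        Finset.card_insert_of_notMem (by simp [Ne.symm hwz, Ne.symm hno.2.1, hw1]),
        Finset.card_insert_of_notMem (by simp [Ne.symm hno.2.2.1, hz1]),
        Finset.card_pair (by simpa using Ne.symm hno.2.2.2)]
    have hle : (({1, z, w, z * w, v} : Finset ↥(S : Subgroup G)) : Set ↥(S : Subgroup G)).ncard ≤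
        (V : Set ↥(S : Subgroup G)).ncard := Set.ncard_le_ncard (by
      intro x hx
      simp only [Finset.coe_insert, Finset.coe_singleton, Set.mem_insert_iff, Set.mem_singleton_iff] at hx
      rcases hx with rfl | rfl | rfl | rfl | rfl
      exacts [one_mem V, hzV, hwV, mul_mem hzV hwV, hv]) (Set.toFinite _)
    rw [Set.ncard_coe_finset, hc, ← Nat.card_coe_set_eq] at hle
    change 5 ≤ Nat.card V at hle
    omega
  refine ⟨z, w, z.2, w.2, by rw [Subgroup.orderOf_coe, hz], ?_, fun e => hwz (Subtype.ext e).symm,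
    fun s hs => congrArg Subtype.val (mem_center_iff.1 hzc ⟨s, hs⟩), fun s hs => ?_, ⟨B, hg, hBe, hB8⟩⟩
  · rw [Subgroup.orderOf_coe]
    exact orderOf_eq_prime (by rw [pow_two]; exact hV2 w hwV) hw1
  · set t : ↥(S : Subgroup G) := ⟨s, hs⟩ with ht
    rcases hVlist _ (hVn.conj_mem w hwV t) with h | h | h | h
    · exact absurd (conj_eq_one_iff.1 h) hw1
    · refine absurd ?_ hwz
      calc w = t⁻¹ * (t * w * t⁻¹) * t := by group
        _ = t⁻¹ * (t * z) := by rw [h, mem_center_iff.1 hzc t, mul_assoc]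
        _ = z := by group
    · exact Or.inl (congrArg Subtype.val h)
    · exact Or.inr (congrArg Subtype.val h)

namespace Frame

variable {S : Sylow 2 G} {z u : G} (F : Frame S z u)
include F

theorem uz : u * z = z * u := F.zc u F.uS

/-- The four-group. -/
theorem ea_four : Cfsg.IsElementaryAbelian 2 (zpowers z ⊔ zpowers u) :=
  ea_sup (SolvCores.ea_zpowers (by rw [← F.zo, pow_orderOf_eq_one]))
    (SolvCores.ea_zpowers (by rw [← F.uo, pow_orderOf_eq_one])) fun a ha b hb => by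
      obtain ⟨i, rfl⟩ := mem_zpowers_iff.1 ha
      obtain ⟨j, rfl⟩ := mem_zpowers_iff.1 hb
      exact ((show Commute z u from F.uz.symm).zpow_zpow i j).eq

theorem z_ne_one : z ≠ 1 := fun h => by have := F.zo; rw [h, orderOf_one] at this; omega
theorem u_ne_one : u ≠ 1 := fun h => by have := F.uo; rw [h, orderOf_one] at this; omega

theorem four_card : 4 ≤ Nat.card ↥(zpowers z ⊔ zpowers u) :=
  SolvCores.pair_card F.ea_four F.z_ne_one fun h => by
    rcases mem_zpowers_iff.1 h with ⟨i, hi⟩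
    rcases Int.even_or_odd i with ⟨j, rfl⟩ | ⟨j, rfl⟩
    · rw [← two_mul, zpow_mul, zpow_two, sq_eq_one_of_order F.zo, one_zpow] at hi
      exact F.u_ne_one hi.symm
    · rw [zpow_add, zpow_mul, zpow_two, sq_eq_one_of_order F.zo, one_zpow, one_mul, zpow_one] at hi
      exact F.ne hi

/-- The subgroup of index at most two. -/
theorem mul_mem_cent {a b : G} (ha : a ∈ (S : Subgroup G)) (hb : b ∈ (S : Subgroup G))
    (hau : a * u ≠ u * a) (hbu : b * u ≠ u * b) : a * b * u = u * (a * b) := by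
  have h : ∀ {c : G}, c ∈ (S : Subgroup G) → c * u ≠ u * c → c * u * c⁻¹ = z * u := fun hc hcu =>
    (F.uc _ hc).resolve_left fun e => hcu (mul_inv_eq_iff_eq_mul.1 e)
  have e : a * b * u * (a * b)⁻¹ = u := by
    calc a * b * u * (a * b)⁻¹ = a * (b * u * b⁻¹) * a⁻¹ := by group
      _ = a * z * a⁻¹ * (a * u * a⁻¹) := by rw [h hb hbu]; group
      _ = z * (z * u) := by rw [h ha hau, F.zc a ha, mul_inv_cancel_right]
      _ = u := by rw [← mul_assoc, sq_eq_one_of_order F.zo, one_mul]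
  exact mul_inv_eq_iff_eq_mul.1 e

theorem ea_card_le {B : Subgroup G} (hBS : B ≤ S) :
    Nat.card B ≤ 2 * Nat.card ↥(B ⊓ centralizer ({u} : Set G)) := by
  classical
  by_cases hall : B ≤ centralizer ({u} : Set G)
  · rw [inf_eq_left.2 hall]; omega
  obtain ⟨b₀, hb₀, hb₀u⟩ := SetLike.not_le_iff_exists.1 hall
  rw [mem_centralizer_singleton_iff] at hb₀u
  let f : Fin 2 × ↥(B ⊓ centralizer ({u} : Set G)) → B := fun p =>
    if p.1 = 0 then ⟨p.2, p.2.2.1⟩ else ⟨b₀⁻¹ * (p.2 : G), mul_mem (inv_mem hb₀) p.2.2.1⟩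
  refine (Nat.card_le_card_of_surjective f fun b => ?_).trans (le_of_eq (by rw [Nat.card_prod, Nat.card_fin]))
  by_cases hb : (b : G) * u = u * b
  · exact ⟨(0, ⟨b, b.2, mem_centralizer_singleton_iff.2 hb⟩), by simp [f]⟩
  · refine ⟨(1, ⟨b₀ * b, mul_mem hb₀ b.2, mem_centralizer_singleton_iff.2
      (F.mul_mem_cent (hBS hb₀) (hBS b.2) hb₀u hb)⟩), Subtype.ext ?_⟩
    simp [f]

variable {θ : G → Subgroup G} (Θ : Equivariant 2 θ)
include Θ

theorem closure_const {B : Subgroup G} (hBS : B ≤ S) (hB : Cfsg.IsElementaryAbelian 2 B)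
    (hB8 : 8 ≤ Nat.card B) : thetaClosure θ B = thetaClosure θ (zpowers z ⊔ zpowers u) := by
  haveI : Fact (Nat.Prime 2) := ⟨Nat.prime_two⟩
  set D := zpowers z ⊔ zpowers u with hD
  set C := B ⊓ centralizer ({u} : Set G) with hC
  have hC4 : 2 ^ 2 ≤ Nat.card C := by have := F.ea_card_le hBS; rw [← hC] at this; omega
  have hCD : Cfsg.IsElementaryAbelian 2 (C ⊔ D) := ea_sup (ea_mono hB inf_le_left) F.ea_four
    fun a ha b hb => by
      have hle : D ≤ centralizer ({a} : Set G) := sup_le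
        (zpowers_le.2 (mem_centralizer_singleton_iff.2 (F.zc a (hBS ha.1)).symm))
        (zpowers_le.2 (mem_centralizer_singleton_iff.2 (mem_centralizer_singleton_iff.1 ha.2).symm))
      exact (mem_centralizer_singleton_iff.1 (hle hb)).symm
  have hD4 : 2 ^ 2 ≤ Nat.card D := F.four_card
  rcases lt_or_ge (Nat.card ↥(C ⊔ D)) 8 with hlt | hge
  · have h4 : Nat.card ↥(C ⊔ D) ≤ 4 := by
      by_contra h
      have := SolvCores.eight_le hCD (by omega)
      omega
    have e1 := eq_of_le_of_card_ge (le_sup_left : C ≤ C ⊔ D) (by omega)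
    have e2 := eq_of_le_of_card_ge (le_sup_right : D ≤ C ⊔ D) (by omega)
    exact Θ.closure_eq hD4 ((e2.trans e1.symm).le.trans inf_le_left) hB hB8
  · rw [Θ.closure_eq hC4 inf_le_left hB hB8, ← Θ.closure_eq hC4 le_sup_left hCD hge,
      Θ.closure_eq hD4 le_sup_right hCD hge]

omit Θ in
theorem four_ext : ∃ B : Subgroup G, zpowers z ⊔ zpowers u ≤ B ∧ B ≤ S ∧ Cfsg.IsElementaryAbelian 2 B ∧
    8 ≤ Nat.card B := by
  obtain ⟨B, hBS, hB, hB8⟩ := F.big
  set D := zpowers z ⊔ zpowers u with hD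
  set C := B ⊓ centralizer ({u} : Set G) with hC
  have hC4 : 4 ≤ Nat.card C := by have := F.ea_card_le hBS; rw [← hC] at this; omega
  haveI : Fact (Nat.Prime 2) := ⟨Nat.prime_two⟩
  have hCD : Cfsg.IsElementaryAbelian 2 (C ⊔ D) := ea_sup (ea_mono hB inf_le_left) F.ea_four
    fun a ha b hb => by
      have hle : D ≤ centralizer ({a} : Set G) := sup_le
        (zpowers_le.2 (mem_centralizer_singleton_iff.2 (F.zc a (hBS ha.1)).symm))
        (zpowers_le.2 (mem_centralizer_singleton_iff.2 (mem_centralizer_singleton_iff.1 ha.2).symm))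
      exact (mem_centralizer_singleton_iff.1 (hle hb)).symm
  have hD4 := F.four_card
  rw [← hD] at hD4
  rcases lt_or_ge (Nat.card ↥(C ⊔ D)) 8 with hlt | hge
  · have h4 : Nat.card ↥(C ⊔ D) ≤ 4 := by
      by_contra h
      have := SolvCores.eight_le hCD (by omega)
      omega
    have e1 := eq_of_le_of_card_ge (le_sup_left : C ≤ C ⊔ D) (by omega)
    have e2 := eq_of_le_of_card_ge (le_sup_right : D ≤ C ⊔ D) (by omega)
    exact ⟨B, (e2.trans e1.symm).le.trans inf_le_left, hBS, hB, hB8⟩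
  · exact ⟨C ⊔ D, le_sup_right, sup_le (inf_le_left.trans hBS)
      (sup_le (zpowers_le.2 F.zS) (zpowers_le.2 F.uS)), hCD, hge⟩

omit Θ in
/-- An involution centralising the four-group lies in an elementary subgroup of order eight. -/
theorem good_of_cent {a : G} (ha : orderOf a = 2) (haS : a ∈ (S : Subgroup G)) (hau : a * u = u * a) :
    ∃ B : Subgroup G, a ∈ B ∧ B ≤ S ∧ Cfsg.IsElementaryAbelian 2 B ∧ 8 ≤ Nat.card B := by
  haveI : Fact (Nat.Prime 2) := ⟨Nat.prime_two⟩
  set D := zpowers z ⊔ zpowers u with hD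
  by_cases haD : a ∈ D
  · obtain ⟨B, hDB, h⟩ := F.four_ext
    exact ⟨B, hDB haD, h⟩
  have hA : Cfsg.IsElementaryAbelian 2 (D ⊔ zpowers a) :=
    ea_sup F.ea_four (SolvCores.ea_zpowers (by rw [← ha, pow_orderOf_eq_one])) fun x hx b hb => by
      obtain ⟨i, rfl⟩ := mem_zpowers_iff.1 hb
      have hle : D ≤ centralizer ({a} : Set G) := sup_le
        (zpowers_le.2 (mem_centralizer_singleton_iff.2 (F.zc a haS).symm))
        (zpowers_le.2 (mem_centralizer_singleton_iff.2 hau.symm))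
      exact ((show Commute x a from mem_centralizer_singleton_iff.1 (hle hx)).zpow_right i).eq
  exact ⟨D ⊔ zpowers a, mem_sup_right (mem_zpowers a), sup_le (sup_le (zpowers_le.2 F.zS) (zpowers_le.2 F.uS))
    (zpowers_le.2 haS), hA, SolvCores.card_ge_of_lt (k := 2) hA (lt_of_le_of_ne le_sup_left fun he =>
      haD (he ▸ mem_sup_right (mem_zpowers a))) F.four_card⟩

end Frame

/-- No involution with a centraliser of order four in a group with an elementary subgroup of order eight. -/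
theorem not_cent_four {P : Type u} [Group P] [Finite P] (hP : IsPGroup 2 P) {x : P} (hx : orderOf x = 2)
    (hC : Nat.card ↥(centralizer ({x} : Set P)) = 4) {B : Subgroup P} (hB : Cfsg.IsElementaryAbelian 2 B)
    (hB8 : 8 ≤ Nat.card B) : False := by
  haveI : Fact (Nat.Prime 2) := ⟨Nat.prime_two⟩
  obtain ⟨a, ha⟩ := CentFour.exists_cyclic_index_two P hP x hx hC
    (hB8.trans (Nat.le_of_dvd Nat.card_pos (card_subgroup_dvd_card B)))
  haveI := Subgroup.normal_of_index_eq_two ha
  set A := zpowers a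
  have h1 : (A.subgroupOf B).index ∣ 2 := ha ▸ relIndex_dvd_index_of_normal A B
  have h2 := (A.subgroupOf B).card_mul_index
  haveI : IsCyclic ↥(A.subgroupOf B) := by
    refine isCyclic_of_injective ((Subgroup.inclusion (inf_le_left : A ⊓ B ≤ A)).comp
      (MonoidHom.codRestrict ((B.subtype).comp (A.subgroupOf B).subtype) (A ⊓ B) fun x => ⟨x.2, x.1.2⟩)) ?_
    intro p q h
    have h' := congrArg Subtype.val h
    exact Subtype.ext (Subtype.ext h')
  obtain ⟨g, hg⟩ := IsCyclic.exists_generator (α := ↥(A.subgroupOf B))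
  have h3 : Nat.card ↥(A.subgroupOf B) ≤ 2 := by
    rw [← orderOf_eq_card_of_forall_mem_zpowers hg]
    refine Nat.le_of_dvd two_pos (orderOf_dvd_of_pow_eq_one (Subtype.ext (Subtype.ext ?_)))
    simpa using hB.2 _ g.1.2
  have h4 : (A.subgroupOf B).index ≤ 2 := Nat.le_of_dvd two_pos h1
  nlinarith

/-- The dichotomy. -/
theorem cit_or_se [IsSimpleGroup G] (hG : ¬ IsMulCommutative G) (hI : CenTwoNilp G)
    (hr : ¬ Cfsg.PRankLE 2 2 G) :
    CNSimple.CIT G ∨ ∃ H : Subgroup G, Cfsg.IsStronglyEmbedded H ∧ Cfsg.oddCore ↥H ≠ ⊥ ∧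
      ∀ t ∈ H, orderOf t = 2 → Cfsg.centralizerPPrimeCore 2 t ≤ (Cfsg.oddCore ↥H).map H.subtype := by
  classical
  haveI hp : Fact (Nat.Prime 2) := ⟨Nat.prime_two⟩
  have hna : ∃ a b : G, a * b ≠ b * a := by
    by_contra! h
    exact hG ⟨⟨h⟩⟩
  obtain ⟨S⟩ := (inferInstance : Nonempty (Sylow 2 G))
  obtain ⟨z, u, F⟩ := exists_frame hr S
  let θ : G → Subgroup G := fun a => Cfsg.centralizerPPrimeCore 2 a
  have Θ : Equivariant 2 θ := equivariant_cores fun a ha => by
    haveI := solvable_cent hI ha.1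
    refine ⟨Components.isPConstrained_iff_pLayer.1 (Components.isPConstrained_iff_charP.2
      (FittingCores.centralizer_pCore_le Nat.prime_two (Components.pPrimeCore_quotient _))), ?_⟩
    exact Group.isSolvable_of_isSolvable_injective
      (f := inclusion (show Cfsg.centralizerPPrimeCore 2 a ≤ centralizer ({a} : Set G) from map_subtype_le _))
      (inclusion_injective _)
  -- every involution is conjugate into the centraliser of the four-group
  have hconjT : ∀ a : G, orderOf a = 2 → ∃ g : G, g * a * g⁻¹ ∈ (S : Subgroup G) ∧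
      g * a * g⁻¹ * u = u * (g * a * g⁻¹) := by
    intro a ha
    set T := (S : Subgroup G) ⊓ centralizer ({u} : Set G) with hT
    by_cases hall : (S : Subgroup G) ≤ centralizer ({u} : Set G)
    · obtain ⟨g, hg⟩ := Partition.exists_conj_mem_sylow ha S
      refine ⟨g⁻¹, ?_, ?_⟩ <;> rw [inv_inv]
      · exact hg
      · exact mem_centralizer_singleton_iff.1 (hall hg)
    · have hcard : 2 * Nat.card T = Nat.card S := by
        obtain ⟨i, hi⟩ := IsPGroup.iff_card.1 (S.2.to_le (inf_le_left : T ≤ S))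
        obtain ⟨j, hj⟩ := IsPGroup.iff_card.1 S.2
        have h1 := F.ea_card_le (B := (S : Subgroup G)) le_rfl
        rw [← hT] at h1
        have hlt : Nat.card T < Nat.card S := by
          refine lt_of_le_of_ne (card_le_of_le inf_le_left) fun e => hall ?_
          rw [← eq_of_le_of_card_ge (inf_le_left : T ≤ S) e.ge]
          exact inf_le_right
        rw [hi, hj] at h1 hlt ⊢
        have hij : i < j := (Nat.pow_lt_pow_iff_right (by norm_num)).1 hlt
        have h2 : 2 ^ j ≤ 2 ^ (i + 1) := by rw [pow_succ]; omega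
        have := (Nat.pow_le_pow_iff_right (by norm_num : 1 < 2)).1 h2
        rw [show j = i + 1 by omega, pow_succ]
        ring
      obtain ⟨g, hg⟩ := Partition.exists_conj_mem hna S (inf_le_left : T ≤ S) hcard ha
      refine ⟨g⁻¹, ?_, ?_⟩ <;> rw [inv_inv]
      · exact hg.1
      · exact mem_centralizer_singleton_iff.1 hg.2
  set W := thetaClosure θ (zpowers z ⊔ zpowers u) with hW
  obtain ⟨B₀, hB₀S, hB₀, hB₀8⟩ := F.big
  have hWB := fun {B : Subgroup G} (h1 : B ≤ S) h2 h3 => F.closure_const Θ (B := B) h1 h2 h3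
  have hWodd : ¬ 2 ∣ Nat.card ↥W := by
    rw [hW, ← hWB hB₀S hB₀ hB₀8]
    exact (iSup_props hB₀ hB₀8 (Θ.functor hB₀ hB₀8)).1.2.1
  have hθT : ∀ a ∈ (S : Subgroup G), orderOf a = 2 → a * u = u * a → θ a ≤ W := by
    intro a haS ha hau
    obtain ⟨B, haB, hBS, hB, hB8⟩ := F.good_of_cent ha haS hau
    have ha1 : a ≠ 1 := fun h1 => by simp [h1] at ha
    exact (le_iSup (fun b : {b : G // b ∈ B ∧ b ≠ 1} => θ b.1) ⟨a, haB, ha1⟩).trans (hWB hBS hB hB8).le
  by_cases hW1 : W = ⊥
  · refine Or.inl fun t ht => ?_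
    obtain ⟨g, hgS, hgu⟩ := hconjT t ht
    have hgo : orderOf (g * t * g⁻¹) = 2 := by rw [Invol.order_conj, ht]
    obtain ⟨B, htB, -, hB, hB8⟩ := F.good_of_cent hgo hgS hgu
    have hdeep : IsDeep 2 (g * t * g⁻¹) := deep_of_mem hB hB8 htB fun h1 => by simp [h1] at hgo
    have h1 : θ t = (θ (g * t * g⁻¹)).map (MulAut.conj g⁻¹).toMonoidHom := by
      rw [← Θ.equiv _ g⁻¹ hdeep]
      congr 1
      group
    have h2 : θ t = ⊥ := by
      rw [h1, le_bot_iff.1 ((hθT _ hgS hgo hgu).trans hW1.le), Subgroup.map_bot]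
    have h3 : Cfsg.pPrimeCore 2 ↥(centralizer ({t} : Set G)) = ⊥ :=
      (map_eq_bot_iff_of_injective _ (subtype_injective _)).1 h2
    exact (PBasic.quotient_pPrimeCore_isPGroup (hI t ht)).of_equiv
      ((QuotientGroup.quotientMulEquivOfEq h3).trans QuotientGroup.quotientBot)
  refine Or.inr ?_
  set H := normalizer (W : Set G) with hH
  have hHne : H ≠ ⊤ := by
    intro htop
    rcases (normalizer_eq_top_iff.1 htop).eq_bot_or_eq_top with e | e
    · exact hW1 e
    · refine AlperinRankTwo.not_odd hG (Nat.odd_iff.2 (Nat.two_dvd_ne_zero.1 ?_))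
      rw [e, card_top] at hWodd
      exact hWodd
  have hSH : (S : Subgroup G) ≤ H := by
    intro s hs
    rw [hH, mem_normalizer_iff_map_conj_eq]
    show W.map (MulAut.conj s).toMonoidHom = W
    conv_lhs => rw [show W = thetaClosure θ B₀ from (hWB hB₀S hB₀ hB₀8).symm]
    rw [← Θ.closure_conj hB₀ hB₀8]
    refine hWB ?_ (SolvCores.ea_map _ hB₀) (by rw [card_map_of_injective (MulAut.conj s).injective]; exact hB₀8)
    rintro _ ⟨b, hb, rfl⟩
    exact mul_mem (mul_mem hs (hB₀S hb)) (inv_mem hs)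
  have hWH : ∀ B ≤ H, Cfsg.IsElementaryAbelian 2 B → 8 ≤ Nat.card B → thetaClosure θ B = W := by
    intro B hBH hB hB8
    obtain ⟨g, hgH, hg⟩ := SolvCores.exists_conj_le hSH (ea_isPGroup hB) hBH
    have h1 := hWB hg (SolvCores.ea_map _ hB)
      (by rw [card_map_of_injective (MulAut.conj g).injective]; exact hB8)
    rw [Θ.closure_conj hB hB8] at h1
    have h2 : W.map (MulAut.conj g).toMonoidHom = W := (mem_normalizer_iff_map_conj_eq (H := W)).1 hgH
    exact map_injective (MulAut.conj g).injective (h1.trans h2.symm)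
  have key : ∀ B ≤ H, Cfsg.IsElementaryAbelian 2 B → 8 ≤ Nat.card B →
      ∀ g : G, B.map (MulAut.conj g).toMonoidHom ≤ H → g ∈ H := by
    intro B hBH hB hB8 g hg
    rw [hH, mem_normalizer_iff_map_conj_eq]
    show W.map (MulAut.conj g).toMonoidHom = W
    conv_lhs => rw [← hWH B hBH hB hB8]
    rw [← Θ.closure_conj hB hB8]
    exact hWH _ hg (SolvCores.ea_map _ hB) (by rw [card_map_of_injective (MulAut.conj g).injective]; exact hB8)
  -- good involutions
  let Good : G → Prop := fun a => ∃ B : Subgroup G, a ∈ B ∧ B ≤ H ∧ Cfsg.IsElementaryAbelian 2 B ∧ 8 ≤ Nat.card B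
  have hgoodT : ∀ a ∈ (S : Subgroup G), orderOf a = 2 → a * u = u * a → Good a := by
    intro a haS ha hau
    obtain ⟨B, haB, hBS, hB, hB8⟩ := F.good_of_cent ha haS hau
    exact ⟨B, haB, hBS.trans hSH, hB, hB8⟩
  have hgoodconj : ∀ a, Good a → ∀ g ∈ H, Good (g * a * g⁻¹) := by
    rintro a ⟨B, haB, hBH, hB, hB8⟩ g hg
    refine ⟨B.map (MulAut.conj g).toMonoidHom, ⟨a, haB, rfl⟩, ?_, SolvCores.ea_map _ hB,
      by rw [card_map_of_injective (MulAut.conj g).injective]; exact hB8⟩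
    rintro _ ⟨b, hb, rfl⟩
    exact mul_mem (mul_mem hg (hBH hb)) (inv_mem hg)
  have hgoodθ : ∀ a, Good a → orderOf a = 2 → θ a ≤ W := by
    rintro a ⟨B, haB, hBH, hB, hB8⟩ ha
    have ha1 : a ≠ 1 := fun h1 => by simp [h1] at ha
    exact (le_iSup (fun b : {b : G // b ∈ B ∧ b ≠ 1} => θ b.1) ⟨a, haB, ha1⟩).trans (hWH B hBH hB hB8).le
  have hC : ∀ a, Good a → orderOf a = 2 → centralizer ({a} : Set G) ≤ H := by
    intro a hgood ha
    obtain ⟨B, haB, hBH, hB, hB8⟩ := hgood
    set K := centralizer ({a} : Set G) with hK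
    have hBK : B ≤ K := ea_le_centralizer_singleton hB haB
    obtain ⟨T, hT⟩ := ((ea_isPGroup hB).comap_subtype (K := K)).exists_le_sylow
    set TG := (T : Subgroup ↥K).map K.subtype with hTG
    have hBT : B ≤ TG := fun b hb => ⟨⟨b, hBK hb⟩, hT hb, rfl⟩
    have hTH : TG ≤ H := by
      by_contra hnot
      have hlt : (H ⊓ TG).subgroupOf TG < ⊤ := by
        rw [lt_top_iff_ne_top, Ne, subgroupOf_eq_top]
        exact fun h1 => hnot (h1.trans inf_le_left)
      have hTp : IsPGroup 2 ↥TG := T.2.map K.subtype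
      haveI := hTp.isNilpotent
      obtain ⟨g, hg, hgn⟩ :=
        SetLike.exists_of_lt (Group.normalizerCondition_of_isNilpotent _ hlt)
      refine hgn ⟨key B hBH hB hB8 g ?_, g.2⟩
      rintro _ ⟨b, hb, rfl⟩
      exact ((mem_normalizer_iff.1 hg ⟨b, hBT hb⟩).1 ⟨hBH hb, hBT hb⟩).1
    haveI := FittingCores.pPrimeCore_normal (G := ↥K) 2
    have hsup := congrArg (Subgroup.map K.subtype)
      (PBasic.sylow_sup_eq_top T (PBasic.quotient_pPrimeCore_isPGroup (hI a ha)))
    rw [Subgroup.map_sup, ← MonoidHom.range_eq_map, range_subtype] at hsup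
    refine hsup.ge.trans (sup_le hTH ?_)
    exact (hgoodθ a ⟨B, haB, hBH, hB, hB8⟩ ha).trans le_normalizer
  -- a normal form for the bad involutions
  have hbadS : ∀ b ∈ H, orderOf b = 2 → ¬ Good b → ∃ h ∈ H, h * b * h⁻¹ ∈ (S : Subgroup G) ∧
      ∀ P : Subgroup G, IsPGroup 2 P → P ≤ H → P ≤ centralizer ({h * b * h⁻¹} : Set G) →
        (S : Subgroup G) ⊓ centralizer ({h * b * h⁻¹} : Set G) ≤ P →
          P = (S : Subgroup G) ⊓ centralizer ({h * b * h⁻¹} : Set G) := by
    intro b hbH hb _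
    set C := H ⊓ centralizer ({b} : Set G) with hC'
    obtain ⟨R₀⟩ := (inferInstance : Nonempty (Sylow 2 ↥C))
    set RG := (R₀ : Subgroup ↥C).map C.subtype with hRG
    have hbR : b ∈ RG := by
      have hbC : b ∈ C := ⟨hbH, mem_centralizer_singleton_iff.2 rfl⟩
      have hp2 : IsPGroup 2 ↥(zpowers (⟨b, hbC⟩ : ↥C)) := IsPGroup.of_card (n := 1) (by
        rw [Nat.card_zpowers, Subgroup.orderOf_mk, hb, pow_one])
      have hn : zpowers (⟨b, hbC⟩ : ↥C) ≤ normalizer ((R₀ : Subgroup ↥C) : Set ↥C) := by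
        refine zpowers_le.2 (mem_normalizer_iff.2 fun y => ?_)
        have hy : (⟨b, hbC⟩ : ↥C) * y = y * ⟨b, hbC⟩ :=
          Subtype.ext (mem_centralizer_singleton_iff.1 y.2.2).symm
        rw [hy, mul_inv_cancel_right]
      have := (R₀.3 (hp2.to_sup_of_normal_right' R₀.2 hn) le_sup_right).le (mem_sup_left (mem_zpowers _))
      exact ⟨_, this, rfl⟩
    have hRH : RG ≤ H := (map_subtype_le _).trans inf_le_left
    obtain ⟨h, hhH, hh⟩ := SolvCores.exists_conj_le hSH (R₀.2.map C.subtype) hRH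
    refine ⟨h, hhH, hh ⟨b, hbR, rfl⟩, fun P hP hPH hPC hle => le_antisymm ?_ hle⟩
    -- transport back
    have hP' : IsPGroup 2 ↥(P.map (MulAut.conj h⁻¹).toMonoidHom) := hP.map _
    have hP'C : P.map (MulAut.conj h⁻¹).toMonoidHom ≤ C := by
      rintro _ ⟨p, hp', rfl⟩
      refine ⟨H.mul_mem (H.mul_mem (H.inv_mem hhH) (hPH hp')) (H.inv_mem (H.inv_mem hhH)),
        mem_centralizer_singleton_iff.2 ?_⟩
      have hpc := mem_centralizer_singleton_iff.1 (hPC hp')
      show h⁻¹ * p * h⁻¹⁻¹ * b = b * (h⁻¹ * p * h⁻¹⁻¹)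
      calc h⁻¹ * p * h⁻¹⁻¹ * b = h⁻¹ * (p * (h * b * h⁻¹)) * h := by group
        _ = h⁻¹ * (h * b * h⁻¹ * p) * h := by rw [hpc]
        _ = _ := by group
    have hRle : RG ≤ P.map (MulAut.conj h⁻¹).toMonoidHom := by
      intro r hr'
      refine ⟨h * r * h⁻¹, hle ⟨hh ⟨r, hr', rfl⟩, mem_centralizer_singleton_iff.2 ?_⟩, by simp [mul_assoc]⟩
      have hrc := mem_centralizer_singleton_iff.1 ((map_subtype_le _ hr').2 : r ∈ centralizer ({b} : Set G))
      calc h * r * h⁻¹ * (h * b * h⁻¹) = h * (r * b) * h⁻¹ := by group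
        _ = h * (b * r) * h⁻¹ := by rw [hrc]
        _ = _ := by group
    have hmax := R₀.3 (hP'.comap_subtype (K := C)) (fun r hr' => hRle ⟨r, hr', rfl⟩)
    intro p hp'
    have hpm : h⁻¹ * p * h⁻¹⁻¹ ∈ P.map (MulAut.conj h⁻¹).toMonoidHom := ⟨p, hp', rfl⟩
    have hpR : (⟨_, hP'C hpm⟩ : ↥C) ∈ (R₀ : Subgroup ↥C) := hmax.le hpm
    have hpS : h * (h⁻¹ * p * h⁻¹⁻¹) * h⁻¹ ∈ (S : Subgroup G) := hh ⟨_, ⟨_, hpR, rfl⟩, rfl⟩
    rw [show h * (h⁻¹ * p * h⁻¹⁻¹) * h⁻¹ = p by group] at hpS
    exact ⟨hpS, hPC hp'⟩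
  have hinvR : ∀ a ∈ (S : Subgroup G), orderOf a = 2 → ¬ Good a → ∀ x ∈ (S : Subgroup G),
      x * a = a * x → x * x = 1 → x = 1 ∨ x = a ∨ x = z ∨ x = z * a := by
    intro a haS ha hbad x hxS hxa hxx
    by_contra hno
    push Not at hno
    refine hbad ?_
    have hza : z ≠ a := fun e => hbad (hgoodT a haS ha (by rw [← e]; exact F.uz.symm))
    have hE : Cfsg.IsElementaryAbelian 2 (zpowers z ⊔ zpowers a) :=
      ea_sup (SolvCores.ea_zpowers (by rw [← F.zo, pow_orderOf_eq_one]))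
        (SolvCores.ea_zpowers (by rw [← ha, pow_orderOf_eq_one])) fun p hp' b hb => by
          obtain ⟨i, rfl⟩ := mem_zpowers_iff.1 hp'
          obtain ⟨j, rfl⟩ := mem_zpowers_iff.1 hb
          exact ((show Commute z a from (F.zc a haS).symm).zpow_zpow i j).eq
    have hA : Cfsg.IsElementaryAbelian 2 (zpowers z ⊔ zpowers a ⊔ zpowers x) :=
      ea_sup hE (SolvCores.ea_zpowers (by rw [pow_two, hxx])) fun p hp' b hb => by
        obtain ⟨i, rfl⟩ := mem_zpowers_iff.1 hb
        have hle : zpowers z ⊔ zpowers a ≤ centralizer ({x} : Set G) := sup_le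
          (zpowers_le.2 (mem_centralizer_singleton_iff.2 (F.zc x hxS).symm))
          (zpowers_le.2 (mem_centralizer_singleton_iff.2 hxa.symm))
        exact ((show Commute p x from mem_centralizer_singleton_iff.1 (hle hp')).zpow_right i).eq
    have hxE : x ∉ zpowers z ⊔ zpowers a := by
      intro hx
      obtain ⟨p, hp', q, hq, rfl⟩ := (SolvBasic.mem_sup_iff_of_le_normalizer (N := zpowers z) (H := zpowers a)
        ((zpowers_le.2 (mem_centralizer_singleton_iff.2 (F.zc a haS))).trans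
          (cent_le_normalizer z))).1 hx
      have hval : ∀ {w y : G}, orderOf w = 2 → y ∈ zpowers w → y = 1 ∨ y = w := by
        intro w y hw hy
        obtain ⟨i, rfl⟩ := mem_zpowers_iff.1 hy
        rcases Int.even_or_odd i with ⟨j, rfl⟩ | ⟨j, rfl⟩
        · left; rw [← two_mul, zpow_mul, zpow_two, sq_eq_one_of_order hw, one_zpow]
        · right; rw [zpow_add, zpow_mul, zpow_two, sq_eq_one_of_order hw, one_zpow, one_mul, zpow_one]
      rcases hval F.zo hp' with rfl | rfl <;> rcases hval ha hq with rfl | rfl <;> simp_all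
    refine ⟨_, mem_sup_left (mem_sup_right (mem_zpowers a)), (sup_le (sup_le (zpowers_le.2 F.zS)
      (zpowers_le.2 haS)) (zpowers_le.2 hxS)).trans hSH, hA,
      SolvCores.card_ge_of_lt (k := 2) hA (lt_of_le_of_ne le_sup_left fun he =>
        hxE (he ▸ mem_sup_right (mem_zpowers x))) (SolvCores.pair_card hE F.z_ne_one fun h => ?_)⟩
    obtain ⟨i, hi⟩ := mem_zpowers_iff.1 h
    rcases Int.even_or_odd i with ⟨j, rfl⟩ | ⟨j, rfl⟩
    · rw [← two_mul, zpow_mul, zpow_two, sq_eq_one_of_order F.zo, one_zpow] at hi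
      rw [← hi, orderOf_one] at ha
      omega
    · rw [zpow_add, zpow_mul, zpow_two, sq_eq_one_of_order F.zo, one_zpow, one_mul, zpow_one] at hi
      exact hza hi
  have hswap : ∀ a ∈ (S : Subgroup G), a * u ≠ u * a → u * a * u⁻¹ = z * a := by
    intro a haS hau
    have h := (F.uc a haS).resolve_left fun e => hau (mul_inv_eq_iff_eq_mul.1 e)
    have hu2 := sq_eq_one_of_order F.uo
    have hinv : u⁻¹ = u := inv_eq_of_mul_eq_one_right hu2
    rw [mul_inv_eq_iff_eq_mul] at h
    rw [hinv, mul_assoc, h, ← mul_assoc, ← mul_assoc, F.uz, mul_assoc z u u, hu2, mul_one]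
  -- every involution is good
  have hall : ∀ b ∈ H, orderOf b = 2 → Good b := by
    intro b hbH hb
    by_contra hbad
    obtain ⟨h₀, hh₀, haS, hmax⟩ := hbadS b hbH hb hbad
    set a := h₀ * b * h₀⁻¹ with ha'
    have ha : orderOf a = 2 := by rw [ha', Invol.order_conj, hb]
    have habad : ¬ Good a := fun hg => hbad (by
      have := hgoodconj a hg h₀⁻¹ (inv_mem hh₀)
      rwa [ha', show h₀⁻¹ * (h₀ * b * h₀⁻¹) * h₀⁻¹⁻¹ = b by group] at this)
    have hau : a * u ≠ u * a := fun e => habad (hgoodT a haS ha e)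
    set R := (S : Subgroup G) ⊓ centralizer ({a} : Set G) with hR
    have hzR : z ∈ R := ⟨F.zS, mem_centralizer_singleton_iff.2 (F.zc a haS).symm⟩
    have haR : a ∈ R := ⟨haS, mem_centralizer_singleton_iff.2 rfl⟩
    -- conjugate `a` into the good part
    obtain ⟨g, hgS, hgu⟩ := hconjT a ha
    have hga : Good (g * a * g⁻¹) := hgoodT _ hgS (by rw [Invol.order_conj, ha]) hgu
    have hgH : g ∉ H := fun hgH => habad (by
      have := hgoodconj _ hga g⁻¹ (inv_mem hgH)
      rwa [show g⁻¹ * (g * a * g⁻¹) * g⁻¹⁻¹ = a by group] at this)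
    have hgRH : R.map (MulAut.conj g).toMonoidHom ≤ H := by
      rintro _ ⟨r, hr', rfl⟩
      refine hC _ hga (by rw [Invol.order_conj, ha]) (mem_centralizer_singleton_iff.2 ?_)
      show g * r * g⁻¹ * (g * a * g⁻¹) = g * a * g⁻¹ * (g * r * g⁻¹)
      calc g * r * g⁻¹ * (g * a * g⁻¹) = g * (r * a) * g⁻¹ := by group
        _ = g * (a * r) * g⁻¹ := by rw [mem_centralizer_singleton_iff.1 hr'.2]
        _ = _ := by group
    have hz'H : g * z * g⁻¹ ∈ H := hgRH ⟨z, hzR, rfl⟩
    have hz'o : orderOf (g * z * g⁻¹) = 2 := by rw [Invol.order_conj, F.zo]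
    have hz'bad : ¬ Good (g * z * g⁻¹) := fun hgood => hgH (key B₀ (hB₀S.trans hSH) hB₀ hB₀8 g (by
      rintro _ ⟨x, hx, rfl⟩
      refine hC _ hgood hz'o (mem_centralizer_singleton_iff.2 ?_)
      show g * x * g⁻¹ * (g * z * g⁻¹) = g * z * g⁻¹ * (g * x * g⁻¹)
      calc g * x * g⁻¹ * (g * z * g⁻¹) = g * (x * z) * g⁻¹ := by group
        _ = g * (z * x) * g⁻¹ := by rw [F.zc x (hB₀S hx)]
        _ = _ := by group))
    obtain ⟨h₁, hh₁, hcS, hmax'⟩ := hbadS _ hz'H hz'o hz'bad
    set c := h₁ * (g * z * g⁻¹) * h₁⁻¹ with hc'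
    have hco : orderOf c = 2 := by rw [hc', Invol.order_conj, hz'o]
    have hcbad : ¬ Good c := fun hgood => hz'bad (by
      have := hgoodconj c hgood h₁⁻¹ (inv_mem hh₁)
      rwa [hc', show h₁⁻¹ * (h₁ * (g * z * g⁻¹) * h₁⁻¹) * h₁⁻¹⁻¹ = g * z * g⁻¹ by group] at this)
    have hcu : c * u ≠ u * c := fun e => hcbad (hgoodT c hcS hco e)
    set R' := (S : Subgroup G) ⊓ centralizer ({c} : Set G) with hR'
    -- move the image of `R` into `R'`
    set C := H ⊓ centralizer ({c} : Set G) with hC'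
    have hR'C : R' ≤ C := fun x hx => ⟨hSH hx.1, hx.2⟩
    have hT' : ∀ P : Subgroup ↥C, IsPGroup 2 P → R'.subgroupOf C ≤ P → P = R'.subgroupOf C := by
      intro P hP hle
      have h1 := hmax' (P.map C.subtype) (hP.map _) ((map_subtype_le _).trans inf_le_left)
        ((map_subtype_le _).trans inf_le_right) (fun x hx => ⟨⟨x, hR'C hx⟩, hle hx, rfl⟩)
      refine le_antisymm (fun x hx => ?_) hle
      rw [mem_subgroupOf]
      exact h1.le ⟨x, hx, rfl⟩
    let T' : Sylow 2 ↥C := ⟨R'.subgroupOf C, (S.2.to_le (inf_le_left : R' ≤ S)).comap_subtype, fun hP hle =>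
      hT' _ hP hle⟩
    set P₁ := R.map (MulAut.conj (h₁ * g)).toMonoidHom with hP₁
    have hP₁C : P₁ ≤ C := by
      rintro _ ⟨r, hr', rfl⟩
      refine ⟨?_, mem_centralizer_singleton_iff.2 ?_⟩
      · show h₁ * g * r * (h₁ * g)⁻¹ ∈ H
        rw [show h₁ * g * r * (h₁ * g)⁻¹ = h₁ * (g * r * g⁻¹) * h₁⁻¹ by group]
        exact mul_mem (mul_mem hh₁ (hgRH ⟨r, hr', rfl⟩)) (inv_mem hh₁)
      · show h₁ * g * r * (h₁ * g)⁻¹ * c = c * (h₁ * g * r * (h₁ * g)⁻¹)
        calc h₁ * g * r * (h₁ * g)⁻¹ * c = h₁ * g * (r * z) * (h₁ * g)⁻¹ := by rw [hc']; group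
          _ = h₁ * g * (z * r) * (h₁ * g)⁻¹ := by rw [F.zc r hr'.1]
          _ = _ := by rw [hc']; group
    obtain ⟨d, hd, hdle⟩ : ∃ d ∈ C, P₁.map (MulAut.conj d).toMonoidHom ≤ R' := by
      obtain ⟨Q, hQ⟩ := (((S.2.to_le (inf_le_left : R ≤ S)).map
        (MulAut.conj (h₁ * g)).toMonoidHom).comap_subtype (K := C)).exists_le_sylow
      obtain ⟨d, hd⟩ := MulAction.exists_smul_eq (↥C) Q T'
      refine ⟨d, d.2, ?_⟩
      rintro _ ⟨x, hx, rfl⟩
      have h1 : d * ⟨x, hP₁C hx⟩ * d⁻¹ ∈ (d • Q : Sylow 2 ↥C) := by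
        rw [Sylow.smul_def]
        exact ⟨_, hQ hx, rfl⟩
      rw [hd] at h1
      exact h1
    set k := d * h₁ * g with hk
    have hkH : k ∉ H := fun hkH => hgH (by
      have := H.mul_mem (H.inv_mem (H.mul_mem hd.1 hh₁)) hkH
      rwa [hk, inv_mul_cancel_left] at this)
    have hkR : ∀ r ∈ R, k * r * k⁻¹ ∈ R' := fun r hr' => by
      have := hdle ⟨_, ⟨r, hr', rfl⟩, rfl⟩
      rw [hk]
      simpa [mul_assoc] using this
    have hdc := mem_centralizer_singleton_iff.1 hd.2
    have hkz : k * z * k⁻¹ = c := by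
      calc k * z * k⁻¹ = d * c * d⁻¹ := by rw [hk, hc']; group
        _ = c := by rw [hdc, mul_inv_cancel_right]
    have hkagood : Good (k * a * k⁻¹) := by
      have := hgoodconj _ hga (d * h₁) (mul_mem hd.1 hh₁)
      rwa [show d * h₁ * (g * a * g⁻¹) * (d * h₁)⁻¹ = k * a * k⁻¹ by rw [hk]; group] at this
    have hkao : orderOf (k * a * k⁻¹) = 2 := by rw [Invol.order_conj, ha]
    have hzcbad : ¬ Good (z * c) := fun hgood => hcbad (by
      have := hgoodconj _ hgood u⁻¹ (inv_mem (hSH F.uS))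
      rwa [← hswap c hcS hcu, show u⁻¹ * (u * c * u⁻¹) * u⁻¹⁻¹ = c by group] at this)
    have hka : k * a * k⁻¹ = z := by
      obtain ⟨hkaS, hkac⟩ := hkR a haR
      rcases hinvR c hcS hco hcbad _ hkaS (mem_centralizer_singleton_iff.1 hkac)
          (sq_eq_one_of_order hkao) with h | h | h | h
      · exact absurd h (fun e => by rw [e, orderOf_one] at hkao; omega)
      · exact absurd (h ▸ hkagood) hcbad
      · exact h
      · exact absurd (h ▸ hkagood) hzcbad
    -- the element of `N(R)` moving `z`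
    have hRpre : ∀ x ∈ R', k⁻¹ * x * k ∈ R := by
      intro x hx
      set P₂ := R'.map (MulAut.conj k⁻¹).toMonoidHom with hP₂
      have h1 : P₂ ≤ centralizer ({a} : Set G) ⊓ centralizer ({z} : Set G) := by
        rintro _ ⟨y, hy, rfl⟩
        refine ⟨mem_centralizer_singleton_iff.2 ?_, mem_centralizer_singleton_iff.2 ?_⟩
        · show k⁻¹ * y * k⁻¹⁻¹ * a = a * (k⁻¹ * y * k⁻¹⁻¹)
          have e : a = k⁻¹ * z * k := by rw [← hka]; group
          rw [e]
          calc k⁻¹ * y * k⁻¹⁻¹ * (k⁻¹ * z * k) = k⁻¹ * (y * z) * k := by group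
            _ = k⁻¹ * (z * y) * k := by rw [F.zc y hy.1]
            _ = _ := by group
        · show k⁻¹ * y * k⁻¹⁻¹ * z = z * (k⁻¹ * y * k⁻¹⁻¹)
          have e : z = k⁻¹ * c * k := by rw [← hkz]; group
          rw [e]
          calc k⁻¹ * y * k⁻¹⁻¹ * (k⁻¹ * c * k) = k⁻¹ * (y * c) * k := by group
            _ = k⁻¹ * (c * y) * k := by rw [mem_centralizer_singleton_iff.1 hy.2]
            _ = _ := by group
      have hzgood : Good z := hgoodT z F.zS F.zo F.uz.symm
      have h2 := hmax P₂ ((S.2.to_le (inf_le_left : R' ≤ S)).map _)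
        ((h1.trans inf_le_right).trans (hC z hzgood F.zo)) (h1.trans inf_le_left)
        (fun r hr' => ⟨k * r * k⁻¹, hkR r hr', by simp [mul_assoc]⟩)
      have : k⁻¹ * x * k⁻¹⁻¹ ∈ P₂ := ⟨x, hx, rfl⟩
      rw [inv_inv] at this
      exact h2.le this
    have huR' : ∀ x ∈ R', u * x * u⁻¹ ∈ R' := by
      intro x hx
      refine ⟨(S : Subgroup G).mul_mem ((S : Subgroup G).mul_mem F.uS hx.1) ((S : Subgroup G).inv_mem F.uS),
        mem_centralizer_singleton_iff.2 ?_⟩
      have h1 := mem_centralizer_singleton_iff.1 hx.2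
      have h2 := hswap c hcS hcu
      have h3 : c = u * (z * c) * u⁻¹ := by
        rw [show u * (z * c) * u⁻¹ = u * z * u⁻¹ * (u * c * u⁻¹) by group, h2, F.uz, mul_inv_cancel_right,
          ← mul_assoc, sq_eq_one_of_order F.zo, one_mul]
      rw [h3]
      calc u * x * u⁻¹ * (u * (z * c) * u⁻¹) = u * (x * z * c) * u⁻¹ := by group
        _ = u * (z * (x * c)) * u⁻¹ := by rw [F.zc x hx.1, mul_assoc z]
        _ = u * (z * c * x) * u⁻¹ := by rw [h1, ← mul_assoc z]
        _ = _ := by group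
    set y := k⁻¹ * u * k with hy
    have hyR : ∀ r ∈ R, y * r * y⁻¹ ∈ R := by
      intro r hr'
      rw [hy, show k⁻¹ * u * k * r * (k⁻¹ * u * k)⁻¹ = k⁻¹ * (u * (k * r * k⁻¹) * u⁻¹) * k by group]
      exact hRpre _ (huR' _ (hkR r hr'))
    have hyz : y * z * y⁻¹ = a * z := by
      rw [hy, show k⁻¹ * u * k * z * (k⁻¹ * u * k)⁻¹ = k⁻¹ * (u * (k * z * k⁻¹) * u⁻¹) * k by group, hkz,
        hswap c hcS hcu]
      have e1 : k⁻¹ * z * k = a := by rw [← hka]; group
      have e2 : k⁻¹ * c * k = z := by rw [← hkz]; group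
      calc k⁻¹ * (z * c) * k = k⁻¹ * z * k * (k⁻¹ * c * k) := by group
        _ = a * z := by rw [e1, e2]
    -- squares
    have hsqu : ∀ r ∈ R, r * r * u = u * (r * r) := by
      intro r hr'
      by_cases hru : r * u = u * r
      · exact ((show Commute r u from hru).mul_left (show Commute r u from hru)).eq
      · exact F.mul_mem_cent hr'.1 hr'.1 hru hru
    have hsq : ∀ r ∈ R, r * r = 1 := by
      intro r hr'
      by_contra hne
      obtain ⟨n, hn⟩ := IsPGroup.iff_orderOf.1 S.2 ⟨r, hr'.1⟩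
      rw [Subgroup.orderOf_mk] at hn
      rcases n with _ | _ | n
      · rw [pow_zero, orderOf_eq_one_iff] at hn
        exact hne (by rw [hn, one_mul])
      · exact hne (sq_eq_one_of_order (by rw [hn]; norm_num))
      set q := r ^ 2 ^ n with hq
      have hqR : q ∈ R := pow_mem hr' _
      have hqq : orderOf (q * q) = 2 := by
        rw [hq, ← pow_add, ← two_mul, ← pow_succ', orderOf_pow_of_dvd (pow_ne_zero _ two_ne_zero)
          (hn ▸ pow_dvd_pow 2 (Nat.le_succ _)), hn, pow_succ, pow_succ,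
          Nat.mul_div_cancel_left _ (mul_pos (pow_pos two_pos n) two_pos)]
      have hzq : q * q = z := by
        rcases hinvR a haS ha habad (q * q) (mul_mem hqR.1 hqR.1)
            (mem_centralizer_singleton_iff.1 (mul_mem hqR.2 hqR.2)) (sq_eq_one_of_order hqq) with h | h | h | h
        · rw [h, orderOf_one] at hqq; omega
        · exact absurd (h ▸ hsqu q hqR) hau
        · exact h
        · exfalso
          have h' := hsqu q hqR
          rw [h] at h'
          refine hau (mul_left_cancel (a := z) ?_)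
          rw [← mul_assoc, h', ← mul_assoc, F.uz, mul_assoc]
      have h2 := hsqu _ (hyR q hqR)
      rw [show y * q * y⁻¹ * (y * q * y⁻¹) = y * (q * q) * y⁻¹ by group, hzq, hyz, mul_assoc, ← F.uz,
        ← mul_assoc, ← mul_assoc u] at h2
      exact hau (mul_right_cancel h2)
    have hR4 : Nat.card R = 4 := by
      have hz1 := F.z_ne_one
      have ha1 : a ≠ 1 := fun e => by rw [e, orderOf_one] at ha; omega
      have hza : z ≠ a := fun e => hau (by rw [← e]; exact F.uz.symm)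
      have hza1 : z * a ≠ 1 := fun e => hza (by
        rw [mul_eq_one_iff_eq_inv.1 e, inv_eq_of_mul_eq_one_right (sq_eq_one_of_order ha)])
      have heq : (R : Set G) = ↑({1, a, z, z * a} : Finset G) := by
        ext x
        simp only [Finset.coe_insert, Finset.coe_singleton, Set.mem_insert_iff, Set.mem_singleton_iff,
          SetLike.mem_coe]
        refine ⟨fun hx => hinvR a haS ha habad x hx.1 (mem_centralizer_singleton_iff.1 hx.2) (hsq x hx), ?_⟩
        rintro (rfl | rfl | rfl | rfl)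
        exacts [one_mem R, haR, hzR, mul_mem hzR haR]
      rw [← SetLike.coe_sort_coe, Nat.card_coe_set_eq, heq, Set.ncard_coe_finset,
        Finset.card_insert_of_notMem (by simp [ha1.symm, hz1.symm, hza1.symm]),
        Finset.card_insert_of_notMem (by simp [hza.symm, hz1]), Finset.card_pair (by simp [ha1])]
    refine not_cent_four (P := ↥(S : Subgroup G)) S.2 (x := ⟨a, haS⟩) (by rw [Subgroup.orderOf_mk, ha]) ?_
      (B := B₀.subgroupOf (S : Subgroup G)) ?_ ?_
    · rw [← hR4, ← Nat.card_congr (subgroupOfEquivOfLe (inf_le_left : R ≤ S)).toEquiv]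
      congr 2
      ext x
      simp [mem_subgroupOf, hR, mem_centralizer_singleton_iff, Subtype.ext_iff]
    · exact ⟨.of_setLike_mul_comm fun x hx y hy => Subtype.ext (ea_comm hB₀ hx hy),
        fun x hx => Subtype.ext (by simpa using hB₀.2 (x : G) hx)⟩
    · rw [Nat.card_congr (subgroupOfEquivOfLe hB₀S).toEquiv]; exact hB₀8
  -- strong embedding
  have hWcore : W ≤ (Cfsg.oddCore ↥H).map H.subtype := by
    have hle : W.subgroupOf H ≤ Cfsg.oddCore ↥H := by
      refine FittingCores.le_pPrimeCore ((normal_subgroupOf_iff_le_normalizer le_normalizer).2 le_rfl) ?_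
      rw [Nat.card_congr (subgroupOfEquivOfLe le_normalizer).toEquiv]
      exact (Nat.prime_two.coprime_iff_not_dvd.2 hWodd).symm
    exact fun w hw => ⟨⟨w, le_normalizer hw⟩, hle hw, rfl⟩
  refine ⟨H, Invol.se_of_centralizers hHne (S.subtype hSH)
    (Invol.even_of_invol_mem F.zo (hSH F.zS)) ?_ (fun t ht hto => hC t (hall t ht hto) hto), fun hbot => hW1 ?_,
    fun t ht hto => (hgoodθ t (hall t ht hto) hto).trans hWcore⟩
  · intro g hg
    refine key B₀ (hB₀S.trans hSH) hB₀ hB₀8 g ?_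
    rw [Sylow.coe_subtype, subgroupOf_map_subtype, inf_eq_left.2 hSH] at hg
    rintro _ ⟨v, hv, rfl⟩
    exact hSH ((mem_normalizer_iff.1 hg v).1 (hB₀S hv))
  · rw [hbot, Subgroup.map_bot] at hWcore
    exact le_bot_iff.1 hWcore

end Cfsg.Agent.CenNilp
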