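import Cfsg.Agent.Lib.CenNilp.SzSetup

/-!
A non-principal linear character from a Sylow 2-subgroup of order 64 with three central involutions, a
fusion of order three without fixed points and centralisers with normal 2-complements.
-/

set_option autoImplicit false
set_option linter.style.haveILetI false
set_option linter.unusedSectionVars false

namespace Cfsg.Agent.CenNilp

open Cfsg Cfsg.Agent.Char Cfsg.Agent.Blocks
open scoped ComplexConjugate

universe u

variable {G : Type u} [Group G] [Fintype G] {M : Ideal AlgInt} [M.IsPrime]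
  {P : Sylow 2 G} {σ : ↥(P : Subgroup G) ≃* ↥(P : Subgroup G)}

namespace SzFused

variable (hP : SzFused P σ)

/-- Characters of the quotient twisted by the automorphism. -/
noncomputable def twistQ (μ : IrrCharacter hP.Q) : IrrCharacter hP.Q :=
  ⟨fun q => (μ : hP.Q → ℂ) (hP.tau q), IsIrrCharacter.comp μ.2 hP.tau.toMonoidHom hP.tau.surjective⟩

theorem twistQ_apply (μ : IrrCharacter hP.Q) (q : hP.Q) :
    (hP.twistQ μ : hP.Q → ℂ) q = (μ : hP.Q → ℂ) (hP.tau q) := rfl

/-- The class function of an orbit. -/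
noncomputable def orbQ (μ : IrrCharacter hP.Q) (q : hP.Q) : ℂ :=
  3 - ((μ : hP.Q → ℂ) q + (hP.twistQ μ : hP.Q → ℂ) q + (hP.twistQ (hP.twistQ μ) : hP.Q → ℂ) q)

theorem twistQ_cube (μ : IrrCharacter hP.Q) : hP.twistQ (hP.twistQ (hP.twistQ μ)) = μ :=
  Subtype.ext (funext fun q => congrArg (μ : hP.Q → ℂ) (hP.tau_cube q))

theorem linQ_one (μ : IrrCharacter hP.Q) : (μ : hP.Q → ℂ) 1 = 1 := by
  haveI : Fintype hP.Q := Fintype.ofFinite _
  rw [irr_one_eq_charDegree, charDegree_eq_one_of_comm hP.quot_comm μ, Nat.cast_one]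

theorem linQ_mul (μ : IrrCharacter hP.Q) (p q : hP.Q) :
    (μ : hP.Q → ℂ) (p * q) = (μ : hP.Q → ℂ) p * (μ : hP.Q → ℂ) q := by
  haveI : Fintype hP.Q := Fintype.ofFinite _
  have hconj : ∀ {a b : hP.Q}, IsConj a b → b = a := by
    intro a b h
    obtain ⟨c, rfl⟩ := isConj_iff.1 h
    rw [hP.quot_comm c a, mul_inv_cancel_right]
  have h := irr_mul_of_const μ p q fun a b ha hb => by rw [hconj ha, hconj hb]
  rw [linQ_one hP μ, one_mul] at h
  exact h.symm

theorem linQ_conj (μ : IrrCharacter hP.Q) (q : hP.Q) :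
    conj ((μ : hP.Q → ℂ) q) = (μ : hP.Q → ℂ) q := by
  rw [← irr_inv, inv_eq_of_mul_eq_one_right (hP.quot_sq q)]

theorem orbQ_one (μ : IrrCharacter hP.Q) : hP.orbQ μ 1 = 0 := by
  simp only [orbQ, twistQ_apply, map_one, linQ_one hP]
  ring

theorem orbQ_conj (μ : IrrCharacter hP.Q) (q : hP.Q) : conj (hP.orbQ μ q) = hP.orbQ μ q := by
  simp only [orbQ, map_sub, map_add, linQ_conj hP, map_ofNat]

theorem orbQ_tau (μ : IrrCharacter hP.Q) (q : hP.Q) :
    hP.orbQ μ (hP.tau q) = hP.orbQ μ q ∧ hP.orbQ μ (hP.tau (hP.tau q)) = hP.orbQ μ q := by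
  simp only [orbQ, twistQ_apply, hP.tau_cube]
  constructor <;> ring

theorem twistQ_ne {μ : IrrCharacter hP.Q} (hμ : μ ≠ principal _) :
    hP.twistQ μ ≠ μ ∧ hP.twistQ (hP.twistQ μ) ≠ μ ∧ hP.twistQ (hP.twistQ μ) ≠ hP.twistQ μ := by
  classical
  have h1 : hP.twistQ μ ≠ μ := by
    intro h
    refine hμ (Subtype.ext (funext fun y => ?_))
    have hinj : Function.Injective fun q : hP.Q => hP.tau q * q := by
      intro a b hab
      have hab' : hP.tau a * a = hP.tau b * b := hab
      have h2 : hP.tau (a * b) = a * b := by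
        rw [map_mul]
        calc hP.tau a * hP.tau b = hP.tau a * a * (a * hP.tau b) := by
              rw [mul_assoc, ← mul_assoc a a, hP.quot_sq, one_mul]
          _ = hP.tau b * b * (a * hP.tau b) := by rw [hab']
          _ = b * a * (hP.tau b * hP.tau b) := by
              rw [hP.quot_comm a (hP.tau b), hP.quot_comm (hP.tau b) b]
              calc b * hP.tau b * (hP.tau b * a) = b * (hP.tau b * hP.tau b) * a := by group
                _ = b * a * (hP.tau b * hP.tau b) := by rw [hP.quot_sq, mul_one, mul_one]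
          _ = a * b := by rw [hP.quot_sq, mul_one, hP.quot_comm]
      have h3 := hP.tau_fpf _ h2
      calc a = a * (b * b) := by rw [hP.quot_sq, mul_one]
        _ = a * b * b := by rw [mul_assoc]
        _ = b := by rw [h3, one_mul]
    obtain ⟨x, rfl⟩ := Finite.surjective_of_injective hinj y
    show (μ : hP.Q → ℂ) (hP.tau x * x) = 1
    rw [linQ_mul hP, ← twistQ_apply, h, ← linQ_mul hP, hP.quot_sq, linQ_one hP]
  refine ⟨h1, fun h => h1 ?_, fun h => h1 ?_⟩
  · have h' := congrArg hP.twistQ h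
    rw [twistQ_cube hP] at h'
    exact h'.symm
  · have h' := congrArg (fun μ => hP.twistQ (hP.twistQ μ)) h
    simp only [twistQ_cube hP] at h'
    exact h'

theorem twistQ_eq_principal {μ : IrrCharacter hP.Q} (h : hP.twistQ μ = principal hP.Q) :
    μ = principal hP.Q := by
  refine Subtype.ext (funext fun y => ?_)
  have := congrArg (fun μ : IrrCharacter hP.Q => (μ : hP.Q → ℂ) (hP.tau.symm y)) h
  simpa [twistQ_apply, principal] using this

theorem orthQ [Fintype hP.Q] [DecidableEq (IrrCharacter hP.Q)] (μ ν : IrrCharacter hP.Q) :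
    ∑ q, (μ : hP.Q → ℂ) q * (ν : hP.Q → ℂ) q = if μ = ν then (16 : ℂ) else 0 := by
  classical
  have h := classInner_irr μ.2 ν.2
  simp only [classInner, linQ_conj hP] at h
  rw [hP.card_quot, inv_mul_eq_iff_eq_mul₀ (by norm_num)] at h
  rw [h]
  by_cases e : μ = ν
  · rw [if_pos e, if_pos (congrArg Subtype.val e)]
    norm_num
  · rw [if_neg e, if_neg (fun h => e (Subtype.ext h)), mul_zero]

theorem sum_orbQ_mul [Fintype hP.Q] [DecidableEq (IrrCharacter hP.Q)] {μ ν : IrrCharacter hP.Q}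
    (hμ : μ ≠ principal _) (hν : ν ≠ principal _) :
    ∑ q, hP.orbQ μ q * hP.orbQ ν q =
      16 * (9 + if ν = μ ∨ ν = hP.twistQ μ ∨ ν = hP.twistQ (hP.twistQ μ) then 3 else 0) := by
  classical
  obtain ⟨d1, d2, d3⟩ := twistQ_ne hP hμ
  obtain ⟨e1, e2, e3⟩ := twistQ_ne hP hν
  have hμ1 : hP.twistQ μ ≠ principal _ := fun h => hμ (twistQ_eq_principal hP h)
  have hμ2 : hP.twistQ (hP.twistQ μ) ≠ principal _ := fun h => hμ1 (twistQ_eq_principal hP h)
  have hν1 : hP.twistQ ν ≠ principal _ := fun h => hν (twistQ_eq_principal hP h)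
  have hν2 : hP.twistQ (hP.twistQ ν) ≠ principal _ := fun h => hν1 (twistQ_eq_principal hP h)
  have hone : ∀ q : hP.Q, (3 : ℂ) = 3 * (principal hP.Q : hP.Q → ℂ) q := fun q => (mul_one _).symm
  simp only [orbQ]
  conv_lhs => arg 2; ext q; rw [hone q]
  simp only [sub_mul, mul_sub, add_mul, mul_add,
    Finset.sum_sub_distrib, Finset.sum_add_distrib, mul_assoc, mul_left_comm _ (3 : ℂ),
    ← Finset.mul_sum, orthQ hP, if_true, hμ, hμ1, hμ2, hν.symm, hν1.symm, hν2.symm, if_false]
  by_cases hor : ν = μ ∨ ν = hP.twistQ μ ∨ ν = hP.twistQ (hP.twistQ μ)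
  · rw [if_pos hor]
    rcases hor with rfl | rfl | rfl <;>
      simp [twistQ_cube hP, d1, d2, d3, d1.symm, d2.symm, d3.symm] <;> ring
  · rw [if_neg hor]
    have hno : ∀ {α β}, (α = μ ∨ α = hP.twistQ μ ∨ α = hP.twistQ (hP.twistQ μ)) →
        (β = ν ∨ β = hP.twistQ ν ∨ β = hP.twistQ (hP.twistQ ν)) → α ≠ β := by
      intro α β ha hb e
      refine hor ?_
      rcases ha with rfl | rfl | rfl <;> rcases hb with hb | hb | hb <;> rw [hb] at e
      all_goals
        first
          | exact Or.inl e.symm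
          | exact Or.inr (Or.inl e.symm)
          | exact Or.inr (Or.inr e.symm)
          | (have h' := congrArg hP.twistQ e; simp only [twistQ_cube hP] at h'
             first
               | exact Or.inl h'.symm
               | exact Or.inr (Or.inl h'.symm)
               | exact Or.inr (Or.inr h'.symm))
          | (have h' := congrArg (fun μ => hP.twistQ (hP.twistQ μ)) e; simp only [twistQ_cube hP] at h'
             first
               | exact Or.inl h'.symm
               | exact Or.inr (Or.inl h'.symm)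
               | exact Or.inr (Or.inr h'.symm))
    simp only [hno (Or.inl rfl) (Or.inl rfl), hno (Or.inl rfl) (Or.inr (Or.inl rfl)),
      hno (Or.inl rfl) (Or.inr (Or.inr rfl)), hno (Or.inr (Or.inl rfl)) (Or.inl rfl),
      hno (Or.inr (Or.inl rfl)) (Or.inr (Or.inl rfl)),
      hno (Or.inr (Or.inl rfl)) (Or.inr (Or.inr rfl)), hno (Or.inr (Or.inr rfl)) (Or.inl rfl),
      hno (Or.inr (Or.inr rfl)) (Or.inr (Or.inl rfl)),
      hno (Or.inr (Or.inr rfl)) (Or.inr (Or.inr rfl)), if_false]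
    ring

include hP in
/-- On a non-trivial element the block pairing is the order of its centraliser in the Sylow subgroup. -/
theorem pair_self (hM : IsPModular 2 M) {x : ↥(P : Subgroup G)} (hx : x ≠ 1) :
    blockPair (principalBlock M G) (x : G) (x : G) =
      (Nat.card ↥(Subgroup.centralizer ({x} : Set ↥(P : Subgroup G))) : ℂ) := by
  classical
  haveI : Fact (Nat.Prime 2) := ⟨Nat.prime_two⟩
  set C := Subgroup.centralizer ({(x : G)} : Set G) with hC
  haveI : Fintype C := Fintype.ofFinite C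
  obtain ⟨N, hN, hN2, hNi⟩ := hP.complement x hx
  obtain ⟨k, hk⟩ := IsPGroup.iff_orderOf.1 P.2 x
  rw [← Subgroup.orderOf_coe] at hk
  have hy : ¬ 2 ∣ orderOf (1 : C) := by rw [orderOf_one]; norm_num
  have h := sum_normSq_section_principal hM (x := (x : G)) ⟨k, hk⟩ hC (y := (1 : C)) hy
  rw [OneMemClass.coe_one, mul_one, blockPair_principal_of_pComplement hM N hN2 hNi hy,
    hP.centralizer_two x hx] at h
  exact h

include hP in
theorem pair_ne (hM : IsPModular 2 M) {x y : ↥(P : Subgroup G)}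
    (h : ¬ IsConj x y ∧ ¬ IsConj (σ x) y ∧ ¬ IsConj (σ (σ x)) y) :
    blockPair (principalBlock M G) (y : G) (x : G) = 0 := by
  haveI : Fact (Nat.Prime 2) := ⟨Nat.prime_two⟩
  have hp : ∀ z : ↥(P : Subgroup G), IsPPart 2 (z : G) (z : G) := fun z => by
    obtain ⟨k, hk⟩ := IsPGroup.iff_orderOf.1 P.2 z
    exact ⟨1, mul_one _, Commute.one_right _, ⟨k, by rw [Subgroup.orderOf_coe]; exact hk⟩, by simp⟩
  refine blockPair_eq_zero_of_pPart hM (isPBlock_principalBlock M G) (hp y) (hp x) fun hc => ?_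
  rcases hP.fusion x y hc.symm with e | e | e
  · exact h.1 e
  · exact h.2.1 e
  · exact h.2.2 e

include hP in
theorem isConj_coe {x y : ↥(P : Subgroup G)} (h : IsConj x y) : IsConj (x : G) (y : G) := by
  obtain ⟨c, rfl⟩ := isConj_iff.1 h
  exact isConj_iff.2 ⟨(c : G), rfl⟩

theorem mk_eq_of_isConj {x y : ↥(P : Subgroup G)} (h : IsConj x y) : (y : hP.Q) = (x : hP.Q) := by
  obtain ⟨c, rfl⟩ := isConj_iff.1 h
  rw [QuotientGroup.mk_mul, QuotientGroup.mk_mul, QuotientGroup.mk_inv, hP.quot_comm (c : hP.Q),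
    mul_inv_cancel_right]

/-- A class function inflated from the quotient and invariant under the automorphism, paired with an element
outside the square roots of one. -/
theorem pair_orbit (hM : IsPModular 2 M) [Fintype ↥(P : Subgroup G)] {x : ↥(P : Subgroup G)}
    (hx : (x : hP.Q) ≠ 1) (h : hP.Q → ℂ) (hh : ∀ q, h (hP.tau q) = h q) :
    ∑ y : ↥(P : Subgroup G), h (y : hP.Q) * blockPair (principalBlock M G) (y : G) (x : G) =
      3 * 64 * h (x : hP.Q) := by
  classical
  have d1 : ∀ q : hP.Q, q ≠ 1 → hP.tau q ≠ q := fun q hq e => hq (hP.tau_fpf q e)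
  have d2 : ∀ q : hP.Q, q ≠ 1 → hP.tau (hP.tau q) ≠ q := fun q hq e => d1 q hq (by
    have := congrArg hP.tau e
    rw [hP.tau_cube] at this
    exact this.symm)
  have hdisj : ∀ {a b y : ↥(P : Subgroup G)}, (a : hP.Q) ≠ (b : hP.Q) → y ∈ classFinset a →
      y ∉ classFinset b := fun {a b y} hab ha hb =>
    hab ((mk_eq_of_isConj hP (mem_classFinset.1 ha)).symm.trans
      (mk_eq_of_isConj hP (mem_classFinset.1 hb)))
  have n1 : (x : hP.Q) ≠ ((σ x : ↥(P : Subgroup G)) : hP.Q) := fun e => d1 _ hx (by rw [tau_mk, ← e])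
  have n2 : (x : hP.Q) ≠ ((σ (σ x) : ↥(P : Subgroup G)) : hP.Q) := fun e =>
    d2 _ hx (by rw [tau_mk, tau_mk, ← e])
  have n3 : ((σ x : ↥(P : Subgroup G)) : hP.Q) ≠ ((σ (σ x) : ↥(P : Subgroup G)) : hP.Q) := fun e =>
    d1 _ hx (hP.tau.injective (by rw [tau_mk, tau_mk, ← e]))
  rw [← Finset.sum_subset (Finset.subset_univ (classFinset x ∪ classFinset (σ x) ∪ classFinset (σ (σ x))))
    (fun y _ hy => by
      simp only [Finset.mem_union, mem_classFinset, not_or] at hy
      rw [pair_ne hP hM ⟨hy.1.1, hy.1.2, hy.2⟩, mul_zero]),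
    Finset.sum_union (Finset.disjoint_left.2 fun y hy => by
      rcases Finset.mem_union.1 hy with hy | hy
      · exact hdisj n2 hy
      · exact hdisj n3 hy),
    Finset.sum_union (Finset.disjoint_left.2 fun y hy => hdisj n1 hy)]
  have hcl : ∀ a : ↥(P : Subgroup G), a ≠ 1 → IsConj (x : G) (a : G) → h (a : hP.Q) = h (x : hP.Q) →
      ∑ y ∈ classFinset a, h (y : hP.Q) * blockPair (principalBlock M G) (y : G) (x : G) =
        64 * h (x : hP.Q) := by
    intro a ha hxa hha
    rw [Finset.sum_congr rfl (fun y hy => by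
      have hay := mem_classFinset.1 hy
      rw [mk_eq_of_isConj hP hay, hha,
        show blockPair (principalBlock M G) (y : G) (x : G) =
            (Nat.card ↥(Subgroup.centralizer ({a} : Set ↥(P : Subgroup G))) : ℂ) by
          rw [← pair_self hP hM ha]
          unfold blockPair
          refine Finset.sum_congr rfl fun χ _ => ?_
          rw [irr_isConj χ (isConj_coe hP hay), irr_isConj χ hxa]]),
      Finset.sum_const, nsmul_eq_mul, ← mul_assoc, mul_comm ((classFinset a).card : ℂ) (h _), mul_assoc,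
      ← Nat.cast_mul, hP.card_class a, mul_comm]
    norm_num
  have hx1 : x ≠ 1 := fun e => hx (by rw [e]; rfl)
  rw [hcl x hx1 (IsConj.refl _) rfl,
    hcl (σ x) (fun e => hx1 (σ.injective (e.trans (map_one σ).symm))) (hP.isConj_apply x)
      (by rw [← tau_mk, hh]),
    hcl (σ (σ x)) (fun e => hx1 (σ.injective (σ.injective (e.trans ((congrArg σ (map_one σ)).trans
      (map_one σ)).symm)))) ((hP.isConj_apply x).trans (hP.isConj_apply (σ x)))
      (by rw [← tau_mk, ← tau_mk, hh, hh])]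
  ring

include hP in
/-- A faithful irreducible character of the Sylow subgroup. -/
theorem exists_psi [Fintype ↥(P : Subgroup G)] {v₀ : ↥(P : Subgroup G)} (hv2 : v₀ * v₀ = 1)
    (hv1 : v₀ ≠ 1) : ∃ ψ : IrrCharacter ↥(P : Subgroup G), (ψ : ↥(P : Subgroup G) → ℂ) 1 = 4 ∧
      (∀ x : ↥(P : Subgroup G), x * x ≠ 1 → (ψ : ↥(P : Subgroup G) → ℂ) x = 0) ∧
      ∀ [Fintype {v : ↥(P : Subgroup G) // v * v = 1}],
        ∑ v : {v : ↥(P : Subgroup G) // v * v = 1}, (ψ : ↥(P : Subgroup G) → ℂ) v = 0 := by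
  classical
  obtain ⟨ψ, hψ⟩ : ∃ ψ : IrrCharacter ↥(P : Subgroup G),
      (ψ : ↥(P : Subgroup G) → ℂ) v₀ ≠ (ψ : ↥(P : Subgroup G) → ℂ) 1 := by
    by_contra hno
    push Not at hno
    have h := column_orth_of_not_isConj (g := v₀) (h := (1 : ↥(P : Subgroup G)))
      fun hc => hv1 (isConj_one_left.1 hc)
    simp only [hno, irr_one_eq_charDegree, Complex.conj_natCast] at h
    have h' := sum_sq_degree (G := ↥(P : Subgroup G))
    simp only [irr_one_eq_charDegree, pow_two] at h'
    rw [h] at h'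
    exact (Nat.cast_ne_zero.2 Nat.card_pos.ne') h'.symm
  have hmul : ∀ v y : ↥(P : Subgroup G), v * v = 1 →
      (ψ : ↥(P : Subgroup G) → ℂ) v * (ψ : ↥(P : Subgroup G) → ℂ) y =
        (ψ : ↥(P : Subgroup G) → ℂ) 1 * (ψ : ↥(P : Subgroup G) → ℂ) (v * y) := by
    intro v y hv
    refine irr_mul_of_const ψ v y fun a b ha hb => ?_
    obtain ⟨c, rfl⟩ := isConj_iff.1 ha
    obtain ⟨d, rfl⟩ := isConj_iff.1 hb
    have e : c * v * c⁻¹ = v := by rw [hP.central v hv c, mul_inv_cancel_right]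
    rw [e, show v * (d * y * d⁻¹) = d * (v * y) * d⁻¹ by rw [← mul_assoc d v, hP.central v hv d]; group]
    exact irr_conj_invariant ψ _ _
  have hoff : ∀ x : ↥(P : Subgroup G), x * x ≠ 1 → (ψ : ↥(P : Subgroup G) → ℂ) x = 0 := by
    intro x hx
    obtain ⟨w, hw⟩ := hP.nondeg x hx v₀ hv2
    have e : v₀ * x = w * x * w⁻¹ := by
      have h2 : v₀⁻¹ = v₀ := inv_eq_of_mul_eq_one_right hv2
      rw [← h2, ← hw]
      group
    have h := hmul v₀ x hv2
    rw [e, irr_conj_invariant] at h
    exact (mul_eq_mul_right_iff.1 h).resolve_left hψ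
  have hsq : ∀ v : ↥(P : Subgroup G), v * v = 1 →
      (ψ : ↥(P : Subgroup G) → ℂ) v = (ψ : ↥(P : Subgroup G) → ℂ) 1 ∨
        (ψ : ↥(P : Subgroup G) → ℂ) v = -(ψ : ↥(P : Subgroup G) → ℂ) 1 := by
    intro v hv
    have h := hmul v v hv
    rw [hv] at h
    exact mul_self_eq_mul_self_iff.1 h
  set d := charDegree (ψ : ↥(P : Subgroup G) → ℂ) with hd
  have hd1 : (ψ : ↥(P : Subgroup G) → ℂ) 1 = (d : ℂ) := irr_one_eq_charDegree ψ
  have h4 : d = 4 := by
    have h := classInner_irr ψ.2 ψ.2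
    simp only [classInner, if_true] at h
    rw [inv_mul_eq_iff_eq_mul₀ (Nat.cast_ne_zero.2 Nat.card_pos.ne'), mul_one, hP.card,
      ← Finset.sum_filter_add_sum_filter_not Finset.univ (fun x : ↥(P : Subgroup G) => x * x = 1),
      Finset.sum_eq_zero (s := Finset.univ.filter fun x : ↥(P : Subgroup G) => ¬ x * x = 1)
        (fun x hx => by rw [hoff x (Finset.mem_filter.1 hx).2, zero_mul]), add_zero,
      Finset.sum_congr rfl (fun v hv => by
        rcases hsq v (Finset.mem_filter.1 hv).2 with e | e <;> rw [e, hd1] <;> simp :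
        ∀ v ∈ Finset.univ.filter (fun x : ↥(P : Subgroup G) => x * x = 1),
          (ψ : ↥(P : Subgroup G) → ℂ) v * conj ((ψ : ↥(P : Subgroup G) → ℂ) v) = (d : ℂ) * d),
      Finset.sum_const, nsmul_eq_mul] at h
    have hc : (Finset.univ.filter fun x : ↥(P : Subgroup G) => x * x = 1).card = 4 := by
      rw [← hP.four, Nat.card_eq_fintype_card, Fintype.card_subtype]
    rw [hc] at h
    have h' : 4 * (d * d) = 64 := by exact_mod_cast h
    have : d * d = 4 * 4 := by omega
    exact Nat.mul_self_inj.1 this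
  refine ⟨ψ, by rw [hd1, h4]; norm_num, hoff, fun {_} => ?_⟩
  let e : {v : ↥(P : Subgroup G) // v * v = 1} ≃ {v : ↥(P : Subgroup G) // v * v = 1} :=
    { toFun := fun v => ⟨v₀ * v, by
        calc v₀ * v * (v₀ * v) = v₀ * (v * v₀) * v := by group
          _ = v₀ * (v₀ * v) * v := by rw [hP.central v₀ hv2]
          _ = v₀ * v₀ * (v * v) := by group
          _ = 1 := by rw [hv2, v.2, one_mul]⟩
      invFun := fun v => ⟨v₀ * v, by
        calc v₀ * v * (v₀ * v) = v₀ * (v * v₀) * v := by group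
          _ = v₀ * (v₀ * v) * v := by rw [hP.central v₀ hv2]
          _ = v₀ * v₀ * (v * v) := by group
          _ = 1 := by rw [hv2, v.2, one_mul]⟩
      left_inv := fun v => Subtype.ext (by simp [← mul_assoc, hv2])
      right_inv := fun v => Subtype.ext (by simp [← mul_assoc, hv2]) }
  have hneg : (ψ : ↥(P : Subgroup G) → ℂ) v₀ = -(ψ : ↥(P : Subgroup G) → ℂ) 1 :=
    (hsq v₀ hv2).resolve_left hψ
  have hd0 : (ψ : ↥(P : Subgroup G) → ℂ) 1 ≠ 0 := irr_one_ne_zero ψ
  have hev : ∀ v : {v : ↥(P : Subgroup G) // v * v = 1},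
      (ψ : ↥(P : Subgroup G) → ℂ) (e v) = -(ψ : ↥(P : Subgroup G) → ℂ) v := by
    intro v
    have h := hmul v₀ v hv2
    rw [hneg] at h
    show (ψ : ↥(P : Subgroup G) → ℂ) (v₀ * v) = _
    exact mul_left_cancel₀ hd0 (by linear_combination -h)
  have h := Equiv.sum_comp e fun v => (ψ : ↥(P : Subgroup G) → ℂ) v
  simp only [hev, Finset.sum_neg_distrib] at h
  exact add_self_eq_zero.1 (by linear_combination -h)

end SzFused

end Cfsg.Agent.CenNilp
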