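import Cfsg.Agent.Lib.Blocks.HomocyclicChars
import Cfsg.Agent.Lib.Char.Integral
import Mathlib.GroupTheory.Coset.Card

/-!
A Sylow 2-subgroup of order 64 with three central involutions and a fusion of order three without fixed
points: the subgroup of square roots of one, the elementary quotient and the induced automorphism.
-/

set_option autoImplicit false
set_option linter.style.haveILetI false
set_option linter.unusedSectionVars false

namespace Cfsg.Agent.CenNilp

open Cfsg Cfsg.Agent.Char Cfsg.Agent.Blocks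
open scoped ComplexConjugate

universe u

variable {G : Type u} [Group G] [Fintype G]

/-- What is used of the Sylow subgroup and of its fusion. -/
structure SzFused (P : Sylow 2 G) (σ : ↥(P : Subgroup G) ≃* ↥(P : Subgroup G)) : Prop where
  card : Nat.card (P : Subgroup G) = 64
  central : ∀ v : ↥(P : Subgroup G), v * v = 1 → ∀ y, y * v = v * y
  four : Nat.card {v : ↥(P : Subgroup G) // v * v = 1} = 4
  sq : ∀ x : ↥(P : Subgroup G), x * x * (x * x) = 1
  nondeg : ∀ a : ↥(P : Subgroup G), a * a ≠ 1 → ∀ v, v * v = 1 → ∃ w, a * w * a⁻¹ * w⁻¹ = v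
  cube : ∀ x, σ (σ (σ x)) = x
  fpf : ∀ x, σ x = x → x = 1
  isConj_apply : ∀ x : ↥(P : Subgroup G), IsConj (x : G) ((σ x : ↥(P : Subgroup G)) : G)
  fusion : ∀ x y : ↥(P : Subgroup G), IsConj (x : G) (y : G) →
    IsConj x y ∨ IsConj (σ x) y ∨ IsConj (σ (σ x)) y
  complement : ∀ x : ↥(P : Subgroup G), x ≠ 1 →
    ∃ N : Subgroup ↥(Subgroup.centralizer ({(x : G)} : Set G)), N.Normal ∧ ¬ 2 ∣ Nat.card N ∧
      ∃ k, N.index = 2 ^ k
  centralizer_two : ∀ x : ↥(P : Subgroup G), x ≠ 1 →
    2 ^ (Nat.card ↥(Subgroup.centralizer ({(x : G)} : Set G))).factorization 2 =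
      Nat.card ↥(Subgroup.centralizer ({x} : Set ↥(P : Subgroup G)))

namespace SzFused

variable {P : Sylow 2 G} {σ : ↥(P : Subgroup G) ≃* ↥(P : Subgroup G)}

/-- The square roots of one. -/
def rootsOne (hP : SzFused P σ) : Subgroup ↥(P : Subgroup G) where
  carrier := {x | x * x = 1}
  one_mem' := mul_one 1
  mul_mem' := fun {a b} (ha : a * a = 1) (hb : b * b = 1) => by
    show a * b * (a * b) = 1
    calc a * b * (a * b) = a * (b * a) * b := by group
      _ = a * (a * b) * b := by rw [hP.central a ha b]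
      _ = a * a * (b * b) := by group
      _ = 1 := by rw [ha, hb, one_mul]
  inv_mem' := fun {a} (ha : a * a = 1) => by
    show a⁻¹ * a⁻¹ = 1
    rw [← mul_inv_rev, ha, inv_one]

variable (hP : SzFused P σ)

theorem mem_rootsOne {x : ↥(P : Subgroup G)} : x ∈ hP.rootsOne ↔ x * x = 1 := Iff.rfl

theorem card_rootsOne : Nat.card hP.rootsOne = 4 := hP.four

instance : hP.rootsOne.Normal :=
  ⟨fun v hv g => by
    rw [show g * v * g⁻¹ = v by rw [hP.central v hv g, mul_inv_cancel_right]]
    exact hv⟩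

/-- The elementary quotient. -/
abbrev Q := ↥(P : Subgroup G) ⧸ hP.rootsOne

theorem quot_sq (q : hP.Q) : q * q = 1 := by
  obtain ⟨x, rfl⟩ := QuotientGroup.mk_surjective q
  rw [← QuotientGroup.mk_mul, QuotientGroup.eq_one_iff]
  exact hP.sq x

theorem quot_comm (p q : hP.Q) : p * q = q * p := by
  have h := hP.quot_sq (p * q)
  calc p * q = p * (p * q * (p * q)) * q := by rw [h, mul_one]
    _ = p * p * (q * p) * (q * q) := by group
    _ = q * p := by rw [hP.quot_sq, hP.quot_sq, one_mul, mul_one]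

theorem card_quot : Nat.card hP.Q = 16 := by
  have h := Subgroup.card_eq_card_quotient_mul_card_subgroup hP.rootsOne
  rw [hP.card, hP.card_rootsOne] at h
  show Nat.card hP.Q = 16
  have : Nat.card hP.Q * 4 = 64 := h.symm
  omega

theorem map_rootsOne : hP.rootsOne.map σ.toMonoidHom = hP.rootsOne := by
  ext x
  constructor
  · rintro ⟨y, hy, rfl⟩
    show σ y * σ y = 1
    rw [← map_mul, show y * y = 1 from hy, map_one]
  · intro hx
    refine ⟨σ.symm x, ?_, σ.apply_symm_apply x⟩
    show σ.symm x * σ.symm x = 1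
    rw [← map_mul, show x * x = 1 from hx, map_one]

/-- The automorphism of the quotient. -/
noncomputable def tau : hP.Q ≃* hP.Q :=
  QuotientGroup.congr hP.rootsOne hP.rootsOne σ hP.map_rootsOne

theorem tau_mk (x : ↥(P : Subgroup G)) :
    hP.tau (x : hP.Q) = ((σ x : ↥(P : Subgroup G)) : hP.Q) := rfl

theorem tau_cube (q : hP.Q) : hP.tau (hP.tau (hP.tau q)) = q := by
  obtain ⟨x, rfl⟩ := QuotientGroup.mk_surjective q
  rw [tau_mk, tau_mk, tau_mk, hP.cube]

theorem tau_fpf (q : hP.Q) (hq : hP.tau q = q) : q = 1 := by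
  obtain ⟨a, rfl⟩ := QuotientGroup.mk_surjective q
  rw [tau_mk, QuotientGroup.eq] at hq
  rw [QuotientGroup.eq_one_iff]
  -- the map `u ↦ u⁻¹ σ u` is onto the square roots of one
  let d : hP.rootsOne → hP.rootsOne := fun u => ⟨(u : ↥(P : Subgroup G))⁻¹ * σ u,
    mul_mem (inv_mem u.2) (hP.map_rootsOne.le ⟨u, u.2, rfl⟩)⟩
  have hd : Function.Injective d := by
    intro u w h
    have h' : (u : ↥(P : Subgroup G))⁻¹ * σ u = (w : ↥(P : Subgroup G))⁻¹ * σ w :=
      congrArg Subtype.val h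
    refine Subtype.ext (mul_inv_eq_one.1 (hP.fpf _ ?_))
    rw [map_mul, map_inv]
    have hc := hP.central _ u.2
    calc σ u * (σ w)⁻¹ = u * ((u : ↥(P : Subgroup G))⁻¹ * σ u) * (σ w)⁻¹ := by group
      _ = u * (w : ↥(P : Subgroup G))⁻¹ := by rw [h']; group
  obtain ⟨u, hu⟩ := (Finite.surjective_of_injective hd) ⟨(σ a)⁻¹ * a, hq⟩
  have hu' : (u : ↥(P : Subgroup G))⁻¹ * σ u = (σ a)⁻¹ * a := congrArg Subtype.val hu
  have hua : σ (a * u) = a * u := by
    rw [map_mul]
    calc σ a * σ u = σ a * (u * ((u : ↥(P : Subgroup G))⁻¹ * σ u)) := by group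
      _ = σ a * (u * ((σ a)⁻¹ * a)) := by rw [hu']
      _ = σ a * (((σ a)⁻¹ * a) * u) := by rw [← hP.central _ u.2]
      _ = a * u := by group
  rw [eq_inv_of_mul_eq_one_left (hP.fpf _ hua)]
  exact inv_mem u.2

theorem not_mem_of_mk_ne {x : ↥(P : Subgroup G)} (hx : (x : hP.Q) ≠ 1) : x * x ≠ 1 :=
  fun h => hx ((QuotientGroup.eq_one_iff x).2 h)

theorem sum_quot [Fintype ↥(P : Subgroup G)] [Fintype hP.Q] (g : hP.Q → ℂ) :
    ∑ x : ↥(P : Subgroup G), g (x : hP.Q) = 4 * ∑ q : hP.Q, g q := by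
  classical
  rw [Finset.mul_sum]
  refine Eq.trans (Finset.sum_fiberwise (Finset.univ : Finset ↥(P : Subgroup G))
    (fun x => (x : hP.Q)) (fun x => g (x : hP.Q))).symm (Finset.sum_congr rfl fun q _ => ?_)
  obtain ⟨a, rfl⟩ := QuotientGroup.mk_surjective q
  rw [Finset.sum_congr rfl (fun x hx => by rw [(Finset.mem_filter.1 hx).2] :
    ∀ x ∈ Finset.univ.filter (fun x : ↥(P : Subgroup G) => (x : hP.Q) = (a : hP.Q)),
      g (x : hP.Q) = g (a : hP.Q)), Finset.sum_const, nsmul_eq_mul]
  congr 1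
  have e : (Finset.univ.filter fun x : ↥(P : Subgroup G) => (x : hP.Q) = (a : hP.Q)).card =
      Nat.card hP.rootsOne := by
    rw [Nat.card_eq_fintype_card, ← Finset.card_univ]
    refine Finset.card_nbij' (fun x => (⟨if (x : hP.Q) = (a : hP.Q) then a⁻¹ * x else 1, by
        split_ifs with h
        · exact QuotientGroup.eq.1 h.symm
        · exact one_mem _⟩ : hP.rootsOne)) (fun v => a * (v : ↥(P : Subgroup G))) ?_ ?_ ?_ ?_
    · exact fun x _ => Finset.mem_univ _
    · intro v _
      refine Finset.mem_filter.2 ⟨Finset.mem_univ _, ?_⟩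
      rw [QuotientGroup.mk_mul, (QuotientGroup.eq_one_iff (v : ↥(P : Subgroup G))).2 v.2, mul_one]
    · intro x hx
      simp [(Finset.mem_filter.1 hx).2]
    · intro v _
      have : ((a * (v : ↥(P : Subgroup G)) : ↥(P : Subgroup G)) : hP.Q) = (a : hP.Q) := by
        rw [QuotientGroup.mk_mul, (QuotientGroup.eq_one_iff (v : ↥(P : Subgroup G))).2 v.2, mul_one]
      exact Subtype.ext (by simp [this])
  rw [e, hP.card_rootsOne]
  norm_num

include hP in
/-- A class of the Sylow subgroup, weighted by the centraliser. -/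
theorem card_class [Fintype ↥(P : Subgroup G)] (x : ↥(P : Subgroup G)) :
    (classFinset x).card * Nat.card ↥(Subgroup.centralizer ({x} : Set ↥(P : Subgroup G))) = 64 := by
  rw [card_classFinset, mul_comm, Subgroup.card_mul_index, hP.card]

end SzFused

/-- Five triples meeting pairwise in pairs have a common pair. -/
theorem common_pair {α : Type*} [DecidableEq α] (F : Finset (Finset α)) (h5 : 5 ≤ F.card)
    (h3 : ∀ s ∈ F, s.card = 3) (h2 : ∀ s ∈ F, ∀ t ∈ F, s ≠ t → (s ∩ t).card = 2) :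
    ∃ K : Finset α, K.card = 2 ∧ ∀ s ∈ F, K ⊆ s := by
  obtain ⟨s₀, hs₀, s₁, hs₁, hne⟩ := Finset.one_lt_card.1 (show 1 < F.card by omega)
  set K := s₀ ∩ s₁ with hK
  set U := s₀ ∪ s₁ with hU
  have hK2 : K.card = 2 := h2 _ hs₀ _ hs₁ hne
  have hU4 : U.card = 4 := by
    have := Finset.card_union_add_card_inter s₀ s₁
    rw [← hK, ← hU, hK2, h3 _ hs₀, h3 _ hs₁] at this
    omega
  -- a triple missing an element of the pair lies in the union
  have hU_of : ∀ s ∈ F, ¬ K ⊆ s → s ⊆ U := by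
    intro s hs hsub
    obtain ⟨k, hkK, hk⟩ := Finset.not_subset.1 hsub
    have hk0 := (Finset.mem_inter.1 hkK).1
    have hk1 := (Finset.mem_inter.1 hkK).2
    have a0 : ∀ r ∈ F, k ∈ r → r.erase k ⊆ s := by
      intro r hr hkr
      have hne' : r ≠ s := fun e => hk (e ▸ hkr)
      have he : r ∩ s = r.erase k := by
        refine Finset.eq_of_subset_of_card_le (fun y hy => Finset.mem_erase.2
          ⟨fun e => hk (e ▸ (Finset.mem_inter.1 hy).2), (Finset.mem_inter.1 hy).1⟩) ?_
        rw [h2 _ hr _ hs hne', Finset.card_erase_of_mem hkr, h3 _ hr]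
      exact he ▸ Finset.inter_subset_right
    have hsub' : U.erase k ⊆ s := by
      intro y hy
      obtain ⟨hyk, hyU⟩ := Finset.mem_erase.1 hy
      rcases Finset.mem_union.1 hyU with h | h
      · exact a0 _ hs₀ hk0 (Finset.mem_erase.2 ⟨hyk, h⟩)
      · exact a0 _ hs₁ hk1 (Finset.mem_erase.2 ⟨hyk, h⟩)
    rw [← Finset.eq_of_subset_of_card_le hsub' (by
      rw [h3 _ hs, Finset.card_erase_of_mem (Finset.mem_union_left _ hk0), hU4])]
    exact Finset.erase_subset _ _
  obtain ⟨w, hw, hwU⟩ : ∃ w ∈ F, ¬ w ⊆ U := by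
    by_contra hno
    push Not at hno
    have := Finset.card_le_card (s := F) (t := U.powersetCard 3) fun s hs =>
      Finset.mem_powersetCard.2 ⟨hno s hs, h3 s hs⟩
    rw [Finset.card_powersetCard, hU4] at this
    have e : Nat.choose 4 3 = 4 := rfl
    omega
  refine ⟨K, hK2, fun s hs => by_contra fun hsub => ?_⟩
  have hsU := hU_of s hs hsub
  have hKw : K ⊆ w := by_contra fun h => hwU (hU_of w hw h)
  obtain ⟨x, hxw, hxU⟩ := Finset.not_subset.1 hwU
  have hne' : s ≠ w := fun e => hwU (e ▸ hsU)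
  have hwK : w ∩ U ⊆ K := by
    intro y hy
    by_contra hyK
    have hsub2 : insert x (insert y K) ⊆ w := by
      intro z hz
      rcases Finset.mem_insert.1 hz with rfl | hz
      · exact hxw
      rcases Finset.mem_insert.1 hz with rfl | hz
      · exact (Finset.mem_inter.1 hy).1
      · exact hKw hz
    have hx' : x ∉ insert y K := fun h => by
      rcases Finset.mem_insert.1 h with rfl | h
      · exact hxU (Finset.mem_inter.1 hy).2
      · exact hxU (Finset.mem_union_left _ (Finset.mem_inter.1 h).1)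
    have := Finset.card_le_card hsub2
    rw [Finset.card_insert_of_notMem hx', Finset.card_insert_of_notMem hyK, hK2, h3 _ hw] at this
    omega
  have hsw : s ∩ w ⊆ s ∩ K := fun y hy =>
    Finset.mem_inter.2 ⟨(Finset.mem_inter.1 hy).1,
      hwK (Finset.mem_inter.2 ⟨(Finset.mem_inter.1 hy).2, hsU (Finset.mem_inter.1 hy).1⟩)⟩
  obtain ⟨k, hkK, hk⟩ := Finset.not_subset.1 hsub
  have hle : (s ∩ w).card ≤ (K.erase k).card := Finset.card_le_card fun y hy => by
    obtain ⟨hy1, hy2⟩ := Finset.mem_inter.1 (hsw hy)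
    exact Finset.mem_erase.2 ⟨fun e => hk (e ▸ hy1), hy2⟩
  rw [h2 _ hs _ hw hne', Finset.card_erase_of_mem hkK, hK2] at hle
  omega

end Cfsg.Agent.CenNilp
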